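import Cfsg.Agent.H740.FiveReeCC
import Cfsg.Agent.H620.RowRee
import Cfsg.Agent.H88.ReeTwo
import Cfsg.Agent.LieRecognition.ReeSetup
import Cfsg.Agent.LieRecognition.ReeFinal
import Cfsg.Agent.LieRecognition.ReeTorusTw
import Cfsg.Agent.S1116
import Cfsg.Agent.S2127
import Cfsg.Agent.S0157

/-!
# Five character degrees: almost simple groups with socle a small Ree group
-/

set_option autoImplicit false

open Cfsg MulAction

namespace Cfsg.Agent.H740.FiveRee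

open Cfsg.Agent.Characters.CCBasic Cfsg.Agent.Characters.CCEstimates Cfsg.Agent.H678.CCExact
  Cfsg.Agent.H678.SuzChar Cfsg.Agent.H740.FiveBase Cfsg.Agent.LieRecognition

universe u v

theorem not_dvd {a L : ℕ} (hL : 0 < L) (h : 8 * L < a) {w : ℤ} (hw : w ≠ 0) (hw8 : |w| ≤ 8) {s : ℕ}
    (hs : s ∣ L) : ¬ (a : ℤ) ∣ w * s := by
  intro hd
  have hs0 : 0 < s := Nat.pos_of_dvd_of_pos hs hL
  have hsL : s ≤ L := Nat.le_of_dvd hL hs
  have h1 : w * s = 0 := by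
    apply Int.eq_zero_of_abs_lt_dvd hd
    rw [abs_mul, Nat.abs_cast]
    calc |w| * (s : ℤ) ≤ 8 * L := mul_le_mul hw8 (by exact_mod_cast hsL) (by positivity) (by norm_num)
      _ < a := by exact_mod_cast h
  rcases mul_eq_zero.1 h1 with h2 | h2
  · exact hw h2
  · omega

/-- The numbers. -/
theorem nums {m : ℕ} (hm : 1 ≤ m) : ∃ sA sB a b : ℕ, sA * 6 + 1 = a ∧ sB * 6 + 1 = b ∧
    3 ^ (2 * m + 1) - 3 ^ (m + 1) + 1 = a ∧ 3 ^ (2 * m + 1) + 3 ^ (m + 1) + 1 = b ∧ 3 ≤ sA ∧ 6 ≤ sB ∧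
    (3 ^ (2 * m + 1)) ^ 3 + 1 = (3 ^ (2 * m + 1) + 1) * a * b ∧ a.Coprime b ∧
    (∀ w : ℤ, w ≠ 0 → |w| ≤ 8 → ∀ s : ℕ, s ∣ 2 * m + 1 → ¬ (a : ℤ) ∣ w * s) ∧
    (∀ w : ℤ, w ≠ 0 → |w| ≤ 8 → ∀ s : ℕ, s ∣ 2 * m + 1 → ¬ (b : ℤ) ∣ w * s) ∧ 2 * (2 * m + 1) < b := by
  obtain ⟨r, hr⟩ : ∃ r, r = 3 ^ m := ⟨_, rfl⟩
  have hr2 : 2 * m + 1 ≤ r := by
    rw [hr]
    clear hr hm
    induction m with
    | zero => norm_num
    | succ k ih => rw [pow_succ]; omega
  have hr4 : 2 ≤ m → 4 * m + 1 ≤ r := by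
    intro h2
    rw [hr]
    clear hr hm hr2
    induction m, h2 using Nat.le_induction with
    | base => norm_num
    | succ k hk ih => rw [pow_succ]; omega
  have hrodd : Odd r := by rw [hr]; exact Odd.pow (by decide)
  obtain ⟨j, hj⟩ := hrodd
  have hj1 : m ≤ j := by omega
  have hj2 : 2 ≤ m → 2 * m ≤ j := fun h => by have := hr4 h; omega
  have hq : 3 ^ (2 * m + 1) = 3 * r ^ 2 := by rw [hr]; ring
  have hs : 3 ^ (m + 1) = 3 * r := by rw [hr]; ring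
  have hjj : j ≤ j ^ 2 := Nat.le_self_pow two_ne_zero j
  have hr3 : 3 * r ^ 2 = 12 * j ^ 2 + 12 * j + 3 := by rw [hj]; ring
  have hcop : (12 * j ^ 2 + 6 * j + 1).Coprime (12 * j ^ 2 + 18 * j + 7) := by
    rw [← Nat.isCoprime_iff_coprime]
    exact ⟨1 + j, -j, by push_cast; ring⟩
  refine ⟨j * (2 * j + 1), (2 * j + 1) * (j + 1), 12 * j ^ 2 + 6 * j + 1, 12 * j ^ 2 + 18 * j + 7, by ring, by ring,
    ?_, ?_, by nlinarith, by nlinarith, ?_, hcop, ?_, ?_, by omega⟩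
  · rw [hq, hs, hr3]; omega
  · rw [hq, hs, hr3]; omega
  · rw [hq, hr3]; ring
  · intro w hw hw8 s hs
    rcases Nat.lt_or_ge m 2 with h | h
    · have hm1 : m = 1 := by omega
      subst hm1
      have hr' : r = 3 := by rw [hr]; norm_num
      have hj' : j = 1 := by omega
      subst hj'
      have hs3 : s = 1 ∨ s = 3 := (Nat.dvd_prime Nat.prime_three).1 hs
      have h8 := abs_le.1 hw8
      intro hd
      norm_num at hd
      rcases hs3 with rfl | rfl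
      · norm_num at hd
        obtain ⟨k, hk⟩ := hd
        omega
      · norm_num at hd
        obtain ⟨k, hk⟩ := hd
        omega
    · have := hj2 h
      have h4 : 4 ≤ j := by omega
      have h5 : 4 * j ≤ j ^ 2 := by nlinarith
      exact not_dvd (by omega) (by omega) hw hw8 hs
  · intro w hw hw8 s hs
    exact not_dvd (by omega) (by omega) hw hw8 hs

section
variable {K : Type u} [Field K] [Fintype K] {G : Type v} [Group G] {m : ℕ} {U : K → K → K → G} {h : Kˣ → G} {n : G}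

/-- The Steinberg character. -/
theorem steinberg [Finite G] (D : ReeAbs.Data m U h n) (hK : Fintype.card K = 3 ^ (2 * m + 1)) :
    ∃ St : IrrCharacter G, charDegree (St : G → ℂ) = (3 ^ (2 * m + 1)) ^ 3 ∧
      ∀ A : Subgroup G, (Nat.card A).Coprime (Nat.card (ReeSplit.bSub D)) →
        ∀ a ∈ A, a ≠ 1 → (St : G → ℂ) a = -1 := by
  classical
  have h2 : IsMultiplyPretransitive G (G ⧸ ReeSplit.bSub D) 2 := H88.ReeTwo.two_coset D
  have hX : Nat.card (G ⧸ ReeSplit.bSub D) = (3 ^ (2 * m + 1)) ^ 3 + 1 := by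
    rw [H88.ReeTwo.card_coset D, hK]
  have hX2 : 2 ≤ Nat.card (G ⧸ ReeSplit.bSub D) := by
    rw [hX]
    have : 0 < (3 ^ (2 * m + 1)) ^ 3 := by positivity
    omega
  have hSt := (S0157.result (G := G) (G ⧸ ReeSplit.bSub D) hX2).2 h2
  have hStv : ∀ g : G, ((⟨_, hSt⟩ : IrrCharacter G) : G → ℂ) g =
    (Nat.card (fixedBy (G ⧸ ReeSplit.bSub D) g) : ℂ) - 1 := fun g => rfl
  refine ⟨⟨_, hSt⟩, ?_, ?_⟩
  · have h := H686.CharKit.charDegree_irr (⟨_, hSt⟩ : IrrCharacter G)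
    rw [hStv, fixedBy_one_eq_univ, Nat.card_coe_set_eq, Set.ncard_univ, hX] at h
    have h' : (charDegree ((⟨_, hSt⟩ : IrrCharacter G) : G → ℂ) : ℂ) = (((3 ^ (2 * m + 1)) ^ 3 : ℕ) : ℂ) := by
      rw [h]; push_cast; ring
    exact_mod_cast h'
  · intro A hA a ha ha1
    rw [hStv]
    have h : fixedBy (G ⧸ ReeSplit.bSub D) a = ∅ := by
      rw [Set.eq_empty_iff_forall_notMem]
      intro z hz
      have h1 : orderOf a ∣ Nat.card A := Subgroup.orderOf_dvd_natCard _ ha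
      obtain ⟨g, rfl⟩ := QuotientGroup.mk_surjective z
      have h4 : g⁻¹ * a * g ∈ ReeSplit.bSub D := by
        have h5 : a • (QuotientGroup.mk g : G ⧸ ReeSplit.bSub D) = QuotientGroup.mk g := hz
        rw [MulAction.Quotient.smul_mk, QuotientGroup.eq] at h5
        have h6 := inv_mem h5
        simpa [mul_assoc] using h6
      have h5 : orderOf (g⁻¹ * a * g) = orderOf a := by
        have := orderOf_injective (MulAut.conj g⁻¹).toMonoidHom (MulAut.conj g⁻¹).injective a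
        simpa using this
      have h6 : orderOf a ∣ Nat.card (ReeSplit.bSub D) := by
        rw [← h5]
        exact Subgroup.orderOf_dvd_natCard _ h4
      exact ha1 (orderOf_eq_one_iff.1 (Nat.eq_one_of_dvd_coprimes hA h1 h6))
    rw [h, Nat.card_coe_set_eq, Set.ncard_empty]
    norm_num

end

theorem five_ree {G : Type u} [Group G] [Finite G] (M : Subgroup G) (hM : M.Normal)
    (hc : Subgroup.centralizer (M : Set G) = ⊥) (h : Cfsg.Lie.IsoRee M) : 5 ≤ (Cfsg.charDegrees G).ncard := by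
  classical
  obtain ⟨K, _, _, m, hm, hK, ⟨e⟩⟩ := h
  have hidx : M.index ∣ 2 * m + 1 := by
    have h1 := index_dvd_out M hM hc
    rw [H55.OutGen.card_out_congr e, S2127.result hm hK] at h1
    exact h1
  have hdeg : charDegrees M = charDegrees (Cfsg.Lie.twistedG2 K (3 ^ m)) := H424.DegTools.charDegrees_congr e
  obtain ⟨sA, sB, a, b, ea, eb, ea', eb', hsA, hsB, hq3, hcop, hA, hB, hLb⟩ := nums hm
  have hfin : Finite (Cfsg.Lie.twistedG2 K (3 ^ m)) := Finite.of_equiv _ e.toEquiv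
  have : Fintype (Cfsg.Lie.twistedG2 K (3 ^ m)) := Fintype.ofFinite _
  have : Finite (IrrCharacter (Cfsg.Lie.twistedG2 K (3 ^ m))) := Characters.Core.finite_irr
  have : Fintype (IrrCharacter (Cfsg.Lie.twistedG2 K (3 ^ m))) := Fintype.ofFinite _
  have D := ReeFinal.data hK
  obtain ⟨A, B, -, -, cA, cB, nA, nB, zA, zB, -⟩ := ReeSetup.exists_tori D hm hK (S1116.result hK hm)
    (fun x hx hx1 => ReeTorusTw.isCyclic_centralizer hK hx hx1)
  rw [ea'] at cA nA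
  rw [eb'] at cB nB
  have hA0 : A ≠ ⊥ := by
    rintro rfl
    rw [Subgroup.card_bot] at cA
    omega
  have hB0 : B ≠ ⊥ := by
    rintro rfl
    rw [Subgroup.card_bot] at cB
    omega
  have hAcc : IsCC A := ⟨hA0, fun x hx hx1 => (zA x hx hx1)⟩
  have hBcc : IsCC B := ⟨hB0, fun x hx hx1 => (zB x hx hx1)⟩
  have hAlen : len A = 6 := by
    rw [len, nA, cA, Nat.mul_div_cancel _ (by omega)]
  have hBlen : len B = 6 := by
    rw [len, nB, cB, Nat.mul_div_cancel _ (by omega)]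
  obtain ⟨E⟩ := nonempty_ccData hAcc hAlen (s := sA) (by omega) (by omega)
  obtain ⟨F⟩ := nonempty_ccData hBcc hBlen (s := sB) (by omega) (by omega)
  obtain ⟨St, St1, hSt⟩ := steinberg D hK
  have hq27 : 27 ≤ 3 ^ (2 * m + 1) := by
    calc 27 = 3 ^ 3 := by norm_num
      _ ≤ 3 ^ (2 * m + 1) := Nat.pow_le_pow_right (by norm_num) (by omega)
  have hcardB := ReeSplit.card_bSub D
  rw [hK] at hcardB
  have hdvA : a ∣ (3 ^ (2 * m + 1)) ^ 3 + 1 := by
    rw [hq3]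
    exact ⟨(3 ^ (2 * m + 1) + 1) * b, by ring⟩
  have hdvB : b ∣ (3 ^ (2 * m + 1)) ^ 3 + 1 := by
    rw [hq3]
    exact ⟨(3 ^ (2 * m + 1) + 1) * a, by ring⟩
  have hcopB : ∀ x : ℕ, x ∣ (3 ^ (2 * m + 1)) ^ 3 + 1 → Odd x → x.Coprime (Nat.card (ReeSplit.bSub D)) := by
    intro x hx hxo
    rw [hcardB]
    obtain ⟨c, hc⟩ : ∃ c, 3 ^ (2 * m + 1) = c + 1 := ⟨3 ^ (2 * m + 1) - 1, by omega⟩
    rw [hc] at hx ⊢
    rw [Nat.add_sub_cancel]
    apply Nat.Coprime.mul_right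
    · apply Nat.Coprime.coprime_dvd_left hx
      rw [Nat.coprime_self_add_left]
      exact Nat.coprime_one_left _
    · have h1 : Nat.Coprime x 2 := Nat.Coprime.symm (Nat.coprime_two_left.2 hxo)
      have h2 : (c + 1) ^ 3 + 1 = c * (c ^ 2 + 3 * c + 3) + 2 := by ring
      have h3 : Nat.gcd x c ∣ 2 := by
        have h4 : Nat.gcd x c ∣ c * (c ^ 2 + 3 * c + 3) + 2 := h2 ▸ (Nat.gcd_dvd_left x c).trans hx
        exact (Nat.dvd_add_right ((Nat.gcd_dvd_right x c).mul_right _)).1 h4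
      have h5 : Nat.gcd x c ∣ x := Nat.gcd_dvd_left x c
      exact Nat.eq_one_of_dvd_coprimes h1 h5 h3
  have hStA := hSt A (by rw [cA]; exact hcopB a hdvA ⟨sA * 3, by omega⟩)
  have hStB := hSt B (by rw [cB]; exact hcopB b hdvB ⟨sB * 3, by omega⟩)
  have hne : Characters.CCValues.one (Cfsg.Lie.twistedG2 K (3 ^ m)) ≠ St := by
    intro h
    rw [← h, deg_one] at St1
    have : 1 < (3 ^ (2 * m + 1)) ^ 3 := Nat.one_lt_pow (by norm_num) (by omega)
    omega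
  obtain ⟨dA, dB, x, y, z, ⟨ψA, hψA⟩, ⟨ψB, hψB⟩, hx, hy, hz, h1, h2, h3, h4⟩ :=
    FiveReeCC.main E F hsA hsB (by rw [cA, cB]; exact hcop) hA0 hB0 hne hStA hStB
  rw [cA] at h1 h3
  rw [cB] at h2 h4
  -- the principal series
  obtain ⟨χ, hχ, hχ1⟩ := H620.RowRee.exists_irr D hK hm
  have hidxB : (H620.RowRee.borel D).index = (3 ^ (2 * m + 1)) ^ 3 + 1 := by
    have h5 := (H620.RowRee.borel D).card_mul_index
    rw [H620.RowRee.card_borel D hK, ReeFinal.card_of_data D hK] at h5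
    exact Nat.eq_of_mul_eq_mul_left (Nat.mul_pos (by positivity) (by omega)) h5
  rw [hidxB] at hχ1
  have ha' : (a : ℤ) ∣ (((3 ^ (2 * m + 1)) ^ 3 : ℕ) : ℤ) + 1 := by exact_mod_cast hdvA
  have hb' : (b : ℤ) ∣ (((3 ^ (2 * m + 1)) ^ 3 : ℕ) : ℤ) + 1 := by exact_mod_cast hdvB
  have hAi : ∀ w : ℤ, w ≠ 0 → |w| ≤ 8 → ∀ s : ℕ, s ∣ M.index → ¬ (a : ℤ) ∣ w * s :=
    fun w hw hw8 s hs => hA w hw hw8 s (hs.trans hidx)
  have hBi : ∀ w : ℤ, w ≠ 0 → |w| ≤ 8 → ∀ s : ℕ, s ∣ M.index → ¬ (b : ℤ) ∣ w * s :=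
    fun w hw hw8 s hs => hB w hw hw8 s (hs.trans hidx)
  have hi0 : 0 < M.index := Nat.pos_of_dvd_of_pos hidx (by omega)
  have hiL : M.index ≤ 2 * m + 1 := Nat.le_of_dvd (by omega) hidx
  obtain ⟨k1, k2, k3, k4, k5, k6, k7, k8⟩ :=
    FiveReeCC.arith ha' hb' hx hy hz h1 h2 h3 h4 hAi hBi hi0 (by omega)
  have hQ1 : 1 < (3 ^ (2 * m + 1)) ^ 3 := Nat.one_lt_pow (by norm_num) (by omega)
  refine five_of M (c₁ := (3 ^ (2 * m + 1)) ^ 3) (c₂ := (3 ^ (2 * m + 1)) ^ 3 + 1) (c₃ := dA) (c₄ := dB)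
    ?_ ?_ ?_ ?_ (by omega) (by omega) k1 k2 k3 k4 k5 k6 k7 k8
  · rw [hdeg]; exact ⟨St, St1⟩
  · rw [hdeg]; exact H424.DegTools.mem_charDegrees.2 ⟨χ, hχ, hχ1⟩
  · rw [hdeg]; exact ⟨ψA, hψA⟩
  · rw [hdeg]; exact ⟨ψB, hψB⟩

end Cfsg.Agent.H740.FiveRee
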