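import Cfsg.Agent.H740.NFTwF

/-!
# S5773: the row of the large Ree groups, the end (helper740)
-/

set_option autoImplicit false

namespace Cfsg.Agent.H740.NFTwF

open Cfsg Cfsg.Lie
open Cfsg.Agent.H518.Dghp Cfsg.Agent.H176.NF Cfsg.Agent.H740.NFTools Cfsg.Agent.H740.NFSz
open Cfsg.Agent.H728.DghpNum

universe u

/-- two separated primes and bounds for the `p`-parts, multiplicative form -/
theorem nf0_parts {T : Type u} [Group T] [Finite T] {r s p A B : ℕ} (hp : p.Prime) (hr : r.Prime) (hs : s.Prime)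
    (hrT : r ∣ Nat.card T) (hsT : s ∣ Nat.card T) (hro : ¬ r ∣ outN T) (hso : ¬ s ∣ outN T) (hpo : ¬ p ∣ outN T)
    (hrs : Sep T r s)
    (hA : ∀ M : Subgroup T, Group.IsSolvable M → r ∣ Nat.card M → p ^ (Nat.card M).factorization p ≤ A)
    (hB : ∀ M : Subgroup T, Group.IsSolvable M → s ∣ Nat.card M → p ^ (Nat.card M).factorization p ≤ B)
    (hlt : A * B < p ^ (Nat.card T).factorization p) : NF0 T := by
  intro H K hH hK h
  have hH0 : Nat.card H ≠ 0 := Nat.card_pos.ne'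
  have hK0 : Nat.card K ≠ 0 := Nat.card_pos.ne'
  have hO0 : outN T ≠ 0 := outN_ne_zero
  have h4 : (Nat.card T).factorization p ≤ (Nat.card H).factorization p + (Nat.card K).factorization p := by
    have := (Nat.factorization_le_iff_dvd Nat.card_pos.ne' (mul_ne_zero (mul_ne_zero hH0 hK0) hO0)).2 h p
    rwa [Nat.factorization_mul (mul_ne_zero hH0 hK0) hO0, Nat.factorization_mul hH0 hK0, Finsupp.add_apply,
      Finsupp.add_apply, Nat.factorization_eq_zero_of_not_dvd hpo, add_zero] at this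
  have h5 : p ^ (Nat.card T).factorization p ≤ p ^ (Nat.card H).factorization p * p ^ (Nat.card K).factorization p := by
    rw [← pow_add]
    exact Nat.pow_le_pow_right hp.pos h4
  rcases dvd_or hr hrT hro h with h1 | h1 <;> rcases dvd_or hs hsT hso h with h2 | h2
  · exact hrs _ hH h1 h2
  · have h6 := Nat.mul_le_mul (hA _ hH h1) (hB _ hK h2)
    omega
  · have h6 := Nat.mul_le_mul (hB _ hH h2) (hA _ hK h1)
    rw [mul_comm B A] at h6
    omega
  · exact hrs _ hK h1 h2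

/-- the primes -/
theorem exists_r {L : ℕ} (hL3 : 3 ≤ L) (hL : Odd L) : ∃ r, Ppd 2 (12 * L) r ∧ 52 < r := by
  rcases eq_or_ne L 3 with rfl | hL'
  · refine ⟨109, ⟨by norm_num, ?_, by norm_num⟩, by norm_num⟩
    have : Fact (Nat.Prime 109) := ⟨by norm_num⟩
    refine orderOf_eq_of_pow_and_pow_div_prime (by norm_num) (by decide) ?_
    intro p hp hpd
    have h12 : (12 * 3 : ℕ) = 2 ^ 2 * 3 ^ 2 := by norm_num
    rw [h12] at hpd
    rcases (Nat.Prime.dvd_mul hp).1 hpd with h3 | h3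
    · have h4 : p = 2 := (Nat.prime_dvd_prime_iff_eq hp Nat.prime_two).1 (hp.dvd_of_dvd_pow h3)
      subst h4
      decide
    · have h4 : p = 3 := (Nat.prime_dvd_prime_iff_eq hp Nat.prime_three).1 (hp.dvd_of_dvd_pow h3)
      subst h4
      decide
  · obtain ⟨r, hr⟩ := exists_ppd (q := 2) (e := 12 * L) le_rfl (by omega) (by omega)
    refine ⟨r, hr, ?_⟩
    have h1 := hr.lt
    obtain ⟨k, hk⟩ := hL
    omega

/-- a prime power dividing a product -/
theorem pow_dvd_of {s k a b : ℕ} (hs : s.Prime) (ha : ¬ s ∣ a) (h : s ^ k ∣ a * b) : s ^ k ∣ b :=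
  Nat.Coprime.dvd_of_dvd_mul_left (Nat.Coprime.pow_left k ((Nat.Prime.coprime_iff_not_dvd hs).2 ha)) h

variable {K : Type} [Field K] [Fintype K] {m : ℕ}

/-- no involution commutes with an element of order `r` -/
theorem no_inv (hm : 1 ≤ m) (hK : Fintype.card K = 2 ^ (2 * m + 1)) {r : ℕ} (hr : r.Prime) (hr2 : r ≠ 2)
    (h1 : ¬ r ∣ (2 ^ (2 * m + 1)) ^ 4 - 1) (a y : ↥(twistedF4 K (2 ^ m))) (ha : orderOf a = 2) (hy : orderOf y = r) :
    a * y ≠ y * a := by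
  intro hay
  have h2 := S2369.result m hm hK a y ha hay
  have h3 : r ∈ (orderOf y).primeFactors := by
    rw [hy, Nat.mem_primeFactors]
    exact ⟨hr, dvd_rfl, hr.ne_zero⟩
  have h4 := Nat.dvd_of_mem_primeFactors (h2 h3)
  rcases hr.dvd_mul.1 h4 with h5 | h5
  · exact hr2 ((Nat.prime_dvd_prime_iff_eq hr Nat.prime_two).1 (hr.dvd_of_dvd_pow h5))
  · exact h1 h5

theorem fac_two (hK : Fintype.card K = 2 ^ (2 * m + 1)) :
    (Nat.card ↥(twistedF4 K (2 ^ m))).factorization 2 = 12 * (2 * m + 1) := by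
  have h1 := S1068.result (K := K) (m := m) hK
  have h2 : Nat.card ↥(twistedF4 K (2 ^ m)) = 2 ^ (12 * (2 * m + 1)) * ((2 ^ (2 * m + 1) - 1) * ((2 ^ (2 * m + 1)) ^ 3 + 1) *
      ((2 ^ (2 * m + 1)) ^ 4 - 1) * ((2 ^ (2 * m + 1)) ^ 6 + 1)) := by
    rw [h1, mul_comm 12 (2 * m + 1), pow_mul]
    ring
  rw [h2]
  have h3 : 2 ^ (2 * m + 1) % 2 = 0 := by rw [pow_succ]; omega
  have h4 : 0 < 2 ^ (2 * m + 1) := by positivity
  have hk : ∀ k, 1 ≤ k → (2 ^ (2 * m + 1)) ^ k % 2 = 0 ∧ 0 < (2 ^ (2 * m + 1)) ^ k := by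
    intro k hk
    refine ⟨?_, by positivity⟩
    have h5 : 2 ∣ (2 ^ (2 * m + 1)) ^ k := dvd_pow (dvd_pow_self 2 (by omega)) (by omega)
    omega
  have h3' := hk 3 (by norm_num)
  have h4' := hk 4 (by norm_num)
  have h6' := hk 6 (by norm_num)
  have hnd : ¬ 2 ∣ ((2 ^ (2 * m + 1) - 1) * ((2 ^ (2 * m + 1)) ^ 3 + 1) *
      ((2 ^ (2 * m + 1)) ^ 4 - 1) * ((2 ^ (2 * m + 1)) ^ 6 + 1)) := by
    rw [Nat.Prime.dvd_mul Nat.prime_two, Nat.Prime.dvd_mul Nat.prime_two, Nat.Prime.dvd_mul Nat.prime_two]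
    rintro (((h | h) | h) | h) <;> omega
  rw [Nat.factorization_mul (by positivity) (fun h => hnd (by rw [h]; exact dvd_zero 2)), Finsupp.add_apply,
    Nat.factorization_eq_zero_of_not_dvd hnd, add_zero, Nat.Prime.factorization_pow Nat.prime_two,
    Finsupp.single_eq_same]

section sep

open Cfsg.Agent.H728.DghpLem Cfsg.Agent.H728.DghpMat Cfsg.Agent.H728.DghpRow
  Cfsg.Agent.H728.DghpCent Cfsg.Agent.H728.DghpUntw Cfsg.Agent.H728.DghpTwA
open Cfsg.Agent.Nodes.RGDChev Cfsg.Agent.H129.TorusChar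
  Cfsg.Agent.ChevalleyStructure.CoxeterGeomTypes Cfsg.Agent.ChevalleyStructure Cfsg.Agent.ChevalleyStructure.Elts

theorem sep_rs (hm : 1 ≤ m) (hK : Fintype.card K = 2 ^ (2 * m + 1)) {r s : ℕ} (hr : Ppd (2 ^ (2 * m + 1)) 12 r)
    (hs : Ppd (2 ^ (2 * m + 1)) 6 s) (hr52 : 52 < r) : Sep ↥(twistedF4 K (2 ^ m)) r s := by
  have hs1 : 7 ≤ s := hs.le_of (by decide)
  have hr1 : 13 ≤ r := hr.le_of (by decide)
  have hs12 : ¬ s ∣ 12 := fun h => by
    have h2 : (12 : ℕ) = 2 ^ 2 * 3 := by norm_num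
    rw [h2] at h
    rcases (Nat.Prime.dvd_mul hs.prime).1 h with h | h
    · have := Nat.le_of_dvd (by norm_num) (hs.prime.dvd_of_dvd_pow h); omega
    · have := Nat.le_of_dvd (by norm_num) h; omega
  have hN : Fintype.card chevF4.Idx = 52 := card_idx _
  have hp : IsType chevF4 4 CoxeterMatrix.F₄ := by simp [IsType, typeList]
  have hle : twistedF4 K (2 ^ m) ≤ chevF4.group K := genSubgroup_le hp.inList _
  have hinc := Subgroup.inclusion_injective hle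
  have : Fact r.Prime := ⟨hr.prime⟩
  have : Finite ↥(twistedF4 K (2 ^ m)) := by
    have : CharP K 2 := Cfsg.Agent.ChevalleyStructure.TwF4.Twisted.charP_two hK
    infer_instance
  refine sep_of_pairs hr.prime hs.prime fun x y hx hy => ?_
  refine not_solvable_wt (a := 1) (φ := (twistedF4 K (2 ^ m)).subtype) (twistedF4 K (2 ^ m)).subtype_injective
    hr.prime hs.prime (hr.natCast_ne (k := 1) (by rw [pow_one]; exact hK)) (hs.natCast_ne (k := 1) (by rw [pow_one]; exact hK))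
    ?_ ?_ 0 (Or.inl rfl) ?_ one_pos (by rw [hN, pow_one]; exact hr52) x y (by rw [pow_one]; exact hx) hy
  · refine NonAdj.of_injective ?_ hinc
    exact nonAdj (l := 4) (M := CoxeterMatrix.F₄) hp card_F4 (by norm_num) one_ne_zero
      invC_F4 hK hr hs (by norm_num) (by decide)
      (not_dvd_list (L := [2, 6, 8, 12]) hr.prime hr1 (by decide)) hs12
  · exact elem_cyclic_of_injective (elem_cyclic hK (chevF4, [2, 6, 8, 12]) (by simp) hr
      (not_dvd_list hr.prime hr1 (by decide)) (by decide)) hinc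
  · rw [hN, hK, hr.ord, add_zero]
    exact lcm_gt' hs.prime (B := 7) hs12 hs1 (by norm_num)

end sep

theorem nf0_twF (hm : 1 ≤ m) (hK : Fintype.card K = 2 ^ (2 * m + 1))
    (hout : outN ↥(twistedF4 K (2 ^ m)) = 2 * m + 1) : NF0 ↥(twistedF4 K (2 ^ m)) := by
  classical
  have hfin : Finite ↥(twistedF4 K (2 ^ m)) := by
    have : CharP K 2 := Cfsg.Agent.ChevalleyStructure.TwF4.Twisted.charP_two hK
    infer_instance
  obtain ⟨r, hr0, hr52⟩ := exists_r (L := 2 * m + 1) (by omega) ⟨m, rfl⟩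
  obtain ⟨s, hs0⟩ := exists_ppd (q := 2) (e := 6 * (2 * m + 1)) le_rfl (by omega) (by omega)
  have hr : Ppd (2 ^ (2 * m + 1)) 12 r := by
    have h := hr0.pow (2 * m + 1) (by omega)
    rwa [Nat.gcd_mul_left_left, Nat.mul_div_cancel _ (by omega)] at h
  have hs : Ppd (2 ^ (2 * m + 1)) 6 s := by
    have h := hs0.pow (2 * m + 1) (by omega)
    rwa [Nat.gcd_mul_left_left, Nat.mul_div_cancel _ (by omega)] at h
  have hrL := hr0.lt
  have hsL := hs0.lt
  have hfac := fac_two (m := m) hK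
  have hcard := S1068.result (K := K) (m := m) hK
  have hr2 : r ≠ 2 := by omega
  have hs2 : s ≠ 2 := by omega
  have hr4 : ¬ r ∣ (2 ^ (2 * m + 1)) ^ 4 - 1 := by rw [hr.dvd_iff]; decide
  have hs4 : ¬ s ∣ (2 ^ (2 * m + 1)) ^ 4 - 1 := by rw [hs.dvd_iff]; decide
  set q := 2 ^ (2 * m + 1) with hq
  have hq8 : 8 ≤ q := by
    have : 2 ^ 3 ≤ 2 ^ (2 * m + 1) := Nat.pow_le_pow_right (by norm_num) (by omega)
    omega
  have hq0 : 0 < q := by omega
  have e1 : q ≤ q ^ 2 := Nat.le_self_pow two_ne_zero q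
  have e2 : q ^ 2 ≤ q ^ 4 := Nat.pow_le_pow_right hq0 (by norm_num)
  have e3 : q ^ 3 + 1 = (q + 1) * (q ^ 2 - q + 1) := by
    zify [e1]
    ring
  have e4 : q ^ 6 + 1 = (q ^ 2 + 1) * (q ^ 4 - q ^ 2 + 1) := by
    zify [e2]
    ring
  have hqn : ∀ {n k : ℕ}, n.Prime → n ≠ 2 → ¬ n ∣ q ^ k := by
    intro n k hn hn2 h
    have h5 := hn.dvd_of_dvd_pow h
    rw [hq] at h5
    exact hn2 ((Nat.prime_dvd_prime_iff_eq hn Nat.prime_two).1 (hn.dvd_of_dvd_pow h5))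
  -- divisors
  have hrq1 : ¬ r ∣ q - 1 := fun h => hr4 (h.trans (Nat.sub_one_dvd_pow_sub_one _ _))
  have hsq1 : ¬ s ∣ q - 1 := fun h => hs4 (h.trans (Nat.sub_one_dvd_pow_sub_one _ _))
  have f2 : q ^ 4 - 1 = (q ^ 2 + 1) * (q ^ 2 - 1) := by
    have h1 : 1 ≤ q ^ 2 := by omega
    have h2 : 1 ≤ q ^ 4 := by omega
    zify [h1, h2]
    ring
  have f3 : q ^ 2 - 1 = (q + 1) * (q - 1) := by
    have h1 : 1 ≤ q ^ 2 := by omega
    have h2 : 1 ≤ q := by omega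
    zify [h1, h2]
    ring
  have f6 : q ^ 6 - 1 = (q ^ 3 + 1) * (q ^ 3 - 1) := by
    have h1 : 1 ≤ q ^ 3 := Nat.one_le_pow _ _ hq0
    have h2 : 1 ≤ q ^ 6 := Nat.one_le_pow _ _ hq0
    zify [h1, h2]
    ring
  have f12 : q ^ 12 - 1 = (q ^ 6 + 1) * (q ^ 6 - 1) := by
    have h1 : 1 ≤ q ^ 6 := Nat.one_le_pow _ _ hq0
    have h2 : 1 ≤ q ^ 12 := Nat.one_le_pow _ _ hq0
    zify [h1, h2]
    ring
  have hrq6 : ¬ r ∣ q ^ 6 - 1 := by rw [hr.dvd_iff]; decide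
  have hrT : r ∣ q ^ 6 + 1 := by
    have h : r ∣ q ^ 12 - 1 := (hr.dvd_iff 12).2 dvd_rfl
    rw [f12] at h
    exact (hr.prime.dvd_mul.1 h).resolve_right hrq6
  have hsq3 : ¬ s ∣ q ^ 3 - 1 := by rw [hs.dvd_iff]; decide
  have hsT : s ∣ q ^ 3 + 1 := by
    have h : s ∣ q ^ 6 - 1 := (hs.dvd_iff 6).2 dvd_rfl
    rw [f6] at h
    exact (hs.prime.dvd_mul.1 h).resolve_right hsq3
  have hsq6 : ¬ s ∣ q ^ 6 + 1 := by
    intro h
    have h1 : s ∣ q ^ 6 - 1 := (hs.dvd_iff 6).2 dvd_rfl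
    have h2 : s ∣ (q ^ 6 + 1) - (q ^ 6 - 1) := Nat.dvd_sub h h1
    have h3 : (q ^ 6 + 1) - (q ^ 6 - 1) = 2 := by
      have : 1 ≤ q ^ 6 := Nat.one_le_pow _ _ hq0
      omega
    rw [h3] at h2
    exact hs2 ((Nat.prime_dvd_prime_iff_eq hs.prime Nat.prime_two).1 h2)
  have hrq2 : ¬ r ∣ q ^ 2 + 1 := fun h => hr4 (by rw [f2]; exact h.mul_right _)
  have hsq : ¬ s ∣ q + 1 := fun h => hs4 (by rw [f2, f3]; exact (h.mul_right _).mul_left _)
  have hrq3 : ¬ r ∣ q ^ 3 + 1 := fun h => hrq6 (by rw [f6]; exact h.mul_right _)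
  have hlt : ∀ x : ℕ, 2 * m + 1 < x → ¬ x ∣ outN ↥(twistedF4 K (2 ^ m)) := by
    intro x hx h
    rw [hout] at h
    have := Nat.le_of_dvd (by omega) h
    omega
  have hSr : ∀ S : Subgroup ↥(twistedF4 K (2 ^ m)), IsPGroup r ↥S → Nat.card S ≤ q ^ 4 - q ^ 2 + 1 := by
    intro S hS
    have : Fact r.Prime := ⟨hr.prime⟩
    obtain ⟨k, hk⟩ := hS.exists_card_eq
    have h1 : r ^ k ∣ q ^ 12 * ((q - 1) * ((q ^ 3 + 1) * ((q ^ 4 - 1) * ((q ^ 2 + 1) * (q ^ 4 - q ^ 2 + 1))))) := by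
      rw [← hk, ← e4]
      refine (Subgroup.card_subgroup_dvd_card S).trans ?_
      rw [hcard]
      exact dvd_of_eq (by ring)
    have h2 := pow_dvd_of hr.prime hrq2 (pow_dvd_of hr.prime hr4 (pow_dvd_of hr.prime hrq3 (pow_dvd_of hr.prime hrq1
      (pow_dvd_of hr.prime (hqn hr.prime hr2) h1))))
    rw [hk]
    exact Nat.le_of_dvd (by omega) h2
  have hSs : ∀ S : Subgroup ↥(twistedF4 K (2 ^ m)), IsPGroup s ↥S → Nat.card S ≤ q ^ 2 - q + 1 := by
    intro S hS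
    have : Fact s.Prime := ⟨hs.prime⟩
    obtain ⟨k, hk⟩ := hS.exists_card_eq
    have h1 : s ^ k ∣ q ^ 12 * ((q - 1) * ((q ^ 6 + 1) * ((q ^ 4 - 1) * ((q + 1) * (q ^ 2 - q + 1))))) := by
      rw [← hk, ← e3]
      refine (Subgroup.card_subgroup_dvd_card S).trans ?_
      rw [hcard]
      exact dvd_of_eq (by ring)
    have h2 := pow_dvd_of hs.prime hsq (pow_dvd_of hs.prime hs4 (pow_dvd_of hs.prime hsq6 (pow_dvd_of hs.prime hsq1
      (pow_dvd_of hs.prime (hqn hs.prime hs2) h1))))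
    rw [hk]
    exact Nat.le_of_dvd (by omega) h2
  have hUr : ∀ y : ↥(twistedF4 K (2 ^ m)), orderOf y = r → ∀ U : Subgroup ↥(twistedF4 K (2 ^ m)), IsPGroup 2 ↥U →
      y ∈ Subgroup.normalizer (U : Set ↥(twistedF4 K (2 ^ m))) → Nat.card U ≤ 1 := by
    intro y hy U hU hn
    obtain ⟨k, hk, hd, hlt⟩ := card_of_norm hm hK hfac hr.prime hr2 (fun k => hr0.dvd_iff k) hr4 hy hU hn
    have h0 : k = 0 := Nat.eq_zero_of_dvd_of_lt hd hlt
    rw [hk, h0, pow_zero]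
  have hUs : ∀ y : ↥(twistedF4 K (2 ^ m)), orderOf y = s → ∀ U : Subgroup ↥(twistedF4 K (2 ^ m)), IsPGroup 2 ↥U →
      y ∈ Subgroup.normalizer (U : Set ↥(twistedF4 K (2 ^ m))) → Nat.card U ≤ q ^ 6 := by
    intro y hy U hU hn
    obtain ⟨k, hk, ⟨c, hc⟩, hlt⟩ := card_of_norm hm hK hfac hs.prime hs2 (fun k => hs0.dvd_iff k) hs4 hy hU hn
    have h0 : k ≤ (2 * m + 1) * 6 := by
      have hc2 : c < 2 := by
        by_contra h
        push Not at h
        have : 6 * (2 * m + 1) * 2 ≤ 6 * (2 * m + 1) * c := Nat.mul_le_mul_left _ h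
        omega
      rw [hc]
      calc 6 * (2 * m + 1) * c ≤ 6 * (2 * m + 1) * 1 := Nat.mul_le_mul_left _ (by omega)
        _ = (2 * m + 1) * 6 := by ring
    rw [hk, hq, ← pow_mul]
    exact Nat.pow_le_pow_right (by norm_num) h0
  refine nf0_parts (p := 2) (r := r) (s := s) (A := 1 * (q ^ 4 - q ^ 2 + 1)) (B := q ^ 6 * (q ^ 2 - q + 1))
    Nat.prime_two hr.prime hs.prime ?_ ?_ (hlt _ (by omega)) (hlt _ (by omega)) ?_ (sep_rs hm hK hr hs hr52) ?_ ?_ ?_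
  · rw [hcard]; exact hrT.mul_left _
  · rw [hcard]
    exact ((hsT.mul_left _).mul_right _).mul_right _
  · rw [hout]; omega
  · intro M hM hrM
    exact bound_part Nat.prime_two hr.prime hr2.symm (fun x y hx hy => no_inv hm hK hr.prime hr2 hr4 x y hx hy) hUr hSr
      M hM hrM
  · intro M hM hsM
    exact bound_part Nat.prime_two hs.prime hs2.symm (fun x y hx hy => no_inv hm hK hs.prime hs2 hs4 x y hx hy) hUs hSs
      M hM hsM
  · rw [hfac]
    have g1 : q ^ 4 - q ^ 2 + 1 < q ^ 4 := by omega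
    have g2 : q ^ 2 - q + 1 ≤ q ^ 2 := by omega
    have g3 : 2 ^ (12 * (2 * m + 1)) = q ^ 4 * (q ^ 6 * q ^ 2) := by
      rw [mul_comm, pow_mul, ← hq]
      ring
    rw [g3, one_mul]
    exact Nat.mul_lt_mul_of_lt_of_le g1 (Nat.mul_le_mul_left _ g2) (by positivity)

/-- **The large Ree groups.** -/
theorem nf_twF {T : Type u} [Group T] (h : Lie.Iso2F4 T) : NF T := by
  obtain ⟨K, _, _, m, hm, hK, ⟨e⟩⟩ := h
  have hs := S1072.result (K := K) hm hK
  have := hs.1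
  have hfin : Finite ↥(twistedF4 K (2 ^ m)) := by
    have : CharP K 2 := Cfsg.Agent.ChevalleyStructure.TwF4.Twisted.charP_two hK
    infer_instance
  have hna : ¬ ∀ a b : ↥(twistedF4 K (2 ^ m)), a * b = b * a := fun h => hs.2 ⟨⟨h⟩⟩
  have hout : outN ↥(twistedF4 K (2 ^ m)) = 2 * m + 1 := S2128.result hm hK
  exact NF.congr e.symm (NF0.nf (conj_injective _ hna) (nf0_twF hm hK hout))

end Cfsg.Agent.H740.NFTwF
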