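import Cfsg.Agent.H740.NFTits

/-!
# S5773: the Tits group, transport (helper740)
-/

set_option autoImplicit false

namespace Cfsg.Agent.H740.NFTits

open Cfsg Subgroup
open Cfsg.Agent.H518.Dghp Cfsg.Agent.H176.NF Cfsg.Agent.H740.NFTools Cfsg.Agent.H740.NFSz
open Cfsg.Agent.CpAutTits
open Cfsg.Agent.Omega.TwoF.Tits Cfsg.Agent.Omega.TwoF.Scalar Cfsg.Agent.Omega.TwoF.Orb
  Cfsg.Agent.ChevalleyStructure.Tits.Main

universe u

theorem outN_congr {A : Type*} {B : Type*} [Group A] [Group B] (e : A ≃* B) : outN A = outN B := by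
  let φ : MulAut B ≃* MulAut A :=
    { toFun := fun f => (e.trans f).trans e.symm
      invFun := fun f => (e.symm.trans f).trans e
      left_inv := fun f => by ext x; simp
      right_inv := fun f => by ext x; simp
      map_mul' := fun f g => by ext x; simp }
  have h1 : (MulAut.conj : B →* MulAut B).range = (MulAut.conj : A →* MulAut A).range.comap φ.toMonoidHom := by
    ext f
    constructor
    · rintro ⟨t, rfl⟩
      refine ⟨e.symm t, ?_⟩
      ext x
      change _ = e.symm (MulAut.conj t (e x))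
      simp
    · rintro ⟨t, ht⟩
      refine ⟨e t, ?_⟩
      apply φ.injective
      change _ = φ f at ht
      rw [← ht]
      ext x
      change e.symm (MulAut.conj (e t) (e x)) = _
      simp
  show (MulAut.conj : A →* MulAut A).range.index = (MulAut.conj : B →* MulAut B).range.index
  rw [h1, Subgroup.index_comap_of_surjective _ φ.surjective]

theorem fin_of {G : Type u} [Group G] (hI : Lie.IsoTits G) : Finite G := by
  apply Nat.finite_of_card_ne_zero
  rw [NotCT.Orders.tits hI]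
  norm_num

theorem nf_hyp {G : Type u} [Group G] {X : Type} [Group X] (e : G ≃* X) {P : Subgroup G} (h : Hyp P)
    (ho : outN X ∣ 2) (hI : Lie.IsoTits G) (hs : IsSimpleGroup G) (hna : ¬ IsMulCommutative G) : NF G := by
  have hfin := fin_of hI
  have h13 : ∀ x : G, orderOf x = 13 → Nat.card (centralizer ({x} : Set G)) = 13 := fun x hx =>
    H547.SelfCent.tits hI hs (H393.Iso.na_tits hI) hx
  have ho' : outN G ∣ 2 := by
    rw [outN_congr e]
    exact ho
  exact (nf0_tits h h13 ho').nf (conj_injective G (fun hc => hna ⟨⟨hc⟩⟩))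

theorem nf_C {L' : Type} [Group L'] (X : Subgroup L') (e : C ≃* ↥X)
    (hten : ∀ y : ↥X, orderOf y = 5 → ∀ i, orderOf i = 2 → i * y = y * i →
      Nat.card ↥(centralizer ({y} : Set ↥X) ⊓ centralizer ({i} : Set ↥X)) = 10)
    (hex : ∃ y i : ↥X, orderOf y = 5 ∧ orderOf i = 2 ∧ i * y = y * i) (ho : outN ↥X ∣ 2)
    (hI : Lie.IsoTits C) (hs : IsSimpleGroup C) (hna : ¬ IsMulCommutative C) : NF C := by
  have h := Row.hyp_of_ten (G := C) e hten hex
  exact nf_hyp e (Fus.hyp h.1 h.2) ho hI hs hna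

theorem outN_TT : outN ↥Cfsg.Agent.TitsK.TT ∣ 2 := by
  have hf2 : Finite Cfsg.Agent.FourTwo.Base.LL := by infer_instance
  exact Cfsg.Agent.TitsK.tdata.index_inn

theorem ex_TT : ∃ y i : ↥Cfsg.Agent.TitsK.TT, orderOf y = 5 ∧ orderOf i = 2 ∧ i * y = y * i :=
  ⟨Ten.facts.xT, Ten.facts.zT, Ten.facts.order_x, Ten.facts.order_z, Ten.facts.comm_zx⟩

theorem nf_aux {L : Type*} [Group L] (K K' : Subgroup L) (hK : K = K') {L' : Type} [Group L'] (X : Subgroup L')
    (hI : Lie.IsoTits ↥(_root_.commutator K))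
    (hs : IsSimpleGroup ↥(_root_.commutator K)) (hna : ¬ IsMulCommutative ↥(_root_.commutator K))
    (e : Nonempty (↥(_root_.commutator K) ≃* ↥X))
    (hten : ∀ y : ↥X, orderOf y = 5 → ∀ i, orderOf i = 2 → i * y = y * i →
      Nat.card ↥(centralizer ({y} : Set ↥X) ⊓ centralizer ({i} : Set ↥X)) = 10)
    (hex : ∃ y i : ↥X, orderOf y = 5 ∧ orderOf i = 2 ∧ i * y = y * i) (ho : outN ↥X ∣ 2)
    (h : ↥(_root_.commutator K') ≃* ↥X →
      (∀ y : ↥X, orderOf y = 5 → ∀ i, orderOf i = 2 → i * y = y * i →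
        Nat.card ↥(centralizer ({y} : Set ↥X) ⊓ centralizer ({i} : Set ↥X)) = 10) →
      (∃ y i : ↥X, orderOf y = 5 ∧ orderOf i = 2 ∧ i * y = y * i) → (outN ↥X ∣ 2) →
      Lie.IsoTits ↥(_root_.commutator K') → IsSimpleGroup ↥(_root_.commutator K') →
      ¬ IsMulCommutative ↥(_root_.commutator K') → NF ↥(_root_.commutator K')) : NF ↥(_root_.commutator K) := by
  subst hK
  obtain ⟨e⟩ := e
  exact h e hten hex ho hI hs hna

theorem nf_titsGroup : NF Cfsg.Lie.TitsGroup :=
  nf_aux (Cfsg.Lie.twistedF4 (ZMod 2) 1) _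
    Cfsg.Agent.ChevalleyStructure.Tits.Main.T0_eq_H0 Cfsg.Agent.TitsK.TT ⟨MulEquiv.refl _⟩
    S1074.result.2.1 S1074.result.2.2.1 Cfsg.Agent.TitsK.exists_equiv Ten.facts.ten ex_TT outN_TT
    (nf_C Cfsg.Agent.TitsK.TT)

theorem transp {X : Type*} [Group X] (K : Subgroup X) {G : Type*} [Group G] (e : Nonempty (G ≃* _root_.commutator K))
    (h : NF ↥(_root_.commutator K)) : NF G := by
  obtain ⟨e⟩ := e
  exact NF.congr e.symm h

/-- **The Tits group.** -/
theorem nf_tits {T : Type u} [Group T] (h : Lie.IsoTits T) : NF T :=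
  transp _ h nf_titsGroup

end Cfsg.Agent.H740.NFTits
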