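import Mathlib
import Cfsg.Prelude.Def_RootSubgroups

/-!
# Quadratic pairs: basics

`oneAdd N h` is the unit `1 + N` (for `N * N = 0`), `QIn G N` says that `N * N = 0` and all `1 + c • N`
lie in `G`, `IsMin G N` that moreover `N ≠ 0` has minimal rank with this property.
-/

set_option autoImplicit false

namespace Cfsg.Agent.H740

open Cfsg

section Basics

variable {k : Type*} [Field k] {M : Type*} [AddCommGroup M] [Module k M]

/-- The unit `1 + N` for a square-zero endomorphism `N`. -/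
def oneAdd (N : M →ₗ[k] M) (h : N * N = 0) : LinearMap.GeneralLinearGroup k M where
  val := 1 + N
  inv := 1 - N
  val_inv := by rw [mul_sub, mul_one, add_mul, one_mul, h]; abel
  inv_val := by rw [sub_mul, one_mul, mul_add, mul_one, h]; abel

@[simp] lemma coe_oneAdd (N : M →ₗ[k] M) (h : N * N = 0) :
    ((oneAdd N h : LinearMap.GeneralLinearGroup k M) : M →ₗ[k] M) = 1 + N := rfl

@[simp] lemma coe_oneAdd_inv (N : M →ₗ[k] M) (h : N * N = 0) :
    (((oneAdd N h)⁻¹ : LinearMap.GeneralLinearGroup k M) : M →ₗ[k] M) = 1 - N := rfl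

lemma eq_oneAdd_iff (σ : LinearMap.GeneralLinearGroup k M) (N : M →ₗ[k] M) (h : N * N = 0) :
    σ = oneAdd N h ↔ (σ : M →ₗ[k] M) = 1 + N := by
  constructor
  · rintro rfl; rfl
  · intro h'; exact Units.ext h'

/-- `N * N = 0` and `1 + c • N ∈ G` for all `c ∈ k`. -/
def QIn (G : Subgroup (LinearMap.GeneralLinearGroup k M)) (N : M →ₗ[k] M) : Prop :=
  N * N = 0 ∧ ∀ c : k, ∃ g ∈ G, (g : M →ₗ[k] M) = 1 + c • N

lemma smul_sq {N : M →ₗ[k] M} (h : N * N = 0) (c : k) : (c • N) * (c • N) = 0 := by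
  rw [smul_mul_smul_comm, h, smul_zero]

lemma QIn.sq {G : Subgroup (LinearMap.GeneralLinearGroup k M)} {N : M →ₗ[k] M} (h : QIn G N) :
    N * N = 0 := h.1

lemma QIn.mem {G : Subgroup (LinearMap.GeneralLinearGroup k M)} {N : M →ₗ[k] M} (h : QIn G N)
    (c : k) : oneAdd (c • N) (smul_sq h.1 c) ∈ G := by
  obtain ⟨g, hg, hgc⟩ := h.2 c
  have : g = oneAdd (c • N) (smul_sq h.1 c) := Units.ext hgc
  rwa [← this]

lemma QIn.mem_of_coe {G : Subgroup (LinearMap.GeneralLinearGroup k M)} {N : M →ₗ[k] M}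
    (h : QIn G N) {g : LinearMap.GeneralLinearGroup k M} {c : k}
    (hg : (g : M →ₗ[k] M) = 1 + c • N) : g ∈ G := by
  have : g = oneAdd (c • N) (smul_sq h.1 c) := Units.ext hg
  rw [this]; exact h.mem c

lemma QIn.mem_one {G : Subgroup (LinearMap.GeneralLinearGroup k M)} {N : M →ₗ[k] M} (h : QIn G N) :
    oneAdd N h.1 ∈ G := h.mem_of_coe (c := 1) (by simp)

lemma qIn_of_mem {G : Subgroup (LinearMap.GeneralLinearGroup k M)} {N : M →ₗ[k] M}
    (h : N * N = 0) (hm : ∀ c : k, oneAdd (c • N) (smul_sq h c) ∈ G) : QIn G N :=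
  ⟨h, fun c => ⟨_, hm c, rfl⟩⟩

lemma QIn.zero (G : Subgroup (LinearMap.GeneralLinearGroup k M)) : QIn G (0 : M →ₗ[k] M) :=
  ⟨by simp, fun c => ⟨1, G.one_mem, by simp⟩⟩

lemma QIn.smul {G : Subgroup (LinearMap.GeneralLinearGroup k M)} {N : M →ₗ[k] M} (h : QIn G N)
    (c : k) : QIn G (c • N) :=
  ⟨smul_sq h.1 c, fun d => by
    obtain ⟨g, hg, hgd⟩ := h.2 (d * c)
    exact ⟨g, hg, by rw [hgd, mul_smul]⟩⟩

lemma QIn.neg {G : Subgroup (LinearMap.GeneralLinearGroup k M)} {N : M →ₗ[k] M} (h : QIn G N) :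
    QIn G (-N) := by
  have := h.smul (-1); simpa using this

lemma QIn.mono {G G' : Subgroup (LinearMap.GeneralLinearGroup k M)} (hGG' : G ≤ G')
    {N : M →ₗ[k] M} (h : QIn G N) : QIn G' N :=
  ⟨h.1, fun c => by obtain ⟨g, hg, hgc⟩ := h.2 c; exact ⟨g, hGG' hg, hgc⟩⟩

/-- Sum of two elements with `N * P = 0 = P * N`. -/
lemma QIn.add {G : Subgroup (LinearMap.GeneralLinearGroup k M)} {N P : M →ₗ[k] M} (hN : QIn G N)
    (hP : QIn G P) (h1 : N * P = 0) (h2 : P * N = 0) : QIn G (N + P) := by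
  refine ⟨by rw [add_mul, mul_add, mul_add, hN.1, hP.1, h1, h2]; simp, fun c => ?_⟩
  obtain ⟨g, hg, hgc⟩ := hN.2 c
  obtain ⟨g', hg', hgc'⟩ := hP.2 c
  refine ⟨g * g', G.mul_mem hg hg', ?_⟩
  rw [Units.val_mul, hgc, hgc', mul_add, mul_one, add_mul, one_mul, smul_mul_smul_comm, h1,
    smul_zero, add_zero, smul_add, add_assoc]

/-- Sum of two commuting elements `N * P = P * N` with `N * P` also in (needed when `N * P ≠ 0`). -/
lemma QIn.conj {G : Subgroup (LinearMap.GeneralLinearGroup k M)} {N : M →ₗ[k] M} (h : QIn G N)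
    {g : LinearMap.GeneralLinearGroup k M} (hg : g ∈ G) :
    QIn G ((g : M →ₗ[k] M) * N * ((g⁻¹ : LinearMap.GeneralLinearGroup k M) : M →ₗ[k] M)) := by
  refine ⟨?_, fun c => ?_⟩
  · calc (g : M →ₗ[k] M) * N * ((g⁻¹ : LinearMap.GeneralLinearGroup k M) : M →ₗ[k] M) *
          ((g : M →ₗ[k] M) * N * ((g⁻¹ : LinearMap.GeneralLinearGroup k M) : M →ₗ[k] M))
        = (g : M →ₗ[k] M) * N * (((g⁻¹ : LinearMap.GeneralLinearGroup k M) : M →ₗ[k] M) *
          (g : M →ₗ[k] M)) * (N * ((g⁻¹ : LinearMap.GeneralLinearGroup k M) : M →ₗ[k] M)) := by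
          simp only [mul_assoc]
      _ = (g : M →ₗ[k] M) * (N * N) * ((g⁻¹ : LinearMap.GeneralLinearGroup k M) : M →ₗ[k] M) := by
          rw [Units.inv_mul, mul_one]; simp only [mul_assoc]
      _ = 0 := by rw [h.1]; simp
  · obtain ⟨x, hx, hxc⟩ := h.2 c
    refine ⟨g * x * g⁻¹, G.mul_mem (G.mul_mem hg hx) (G.inv_mem hg), ?_⟩
    rw [Units.val_mul, Units.val_mul, hxc, mul_add, mul_one, add_mul, Units.mul_inv,
      mul_smul_comm, smul_mul_assoc]

/-- `QIn` is preserved by any linear `g` normalising `G`. -/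
lemma QIn.conj_of_normalizes {G : Subgroup (LinearMap.GeneralLinearGroup k M)} {N : M →ₗ[k] M}
    (h : QIn G N) {g : LinearMap.GeneralLinearGroup k M} (hg : ∀ x ∈ G, g * x * g⁻¹ ∈ G) :
    QIn G ((g : M →ₗ[k] M) * N * ((g⁻¹ : LinearMap.GeneralLinearGroup k M) : M →ₗ[k] M)) := by
  refine ⟨?_, fun c => ?_⟩
  · calc (g : M →ₗ[k] M) * N * ((g⁻¹ : LinearMap.GeneralLinearGroup k M) : M →ₗ[k] M) *
          ((g : M →ₗ[k] M) * N * ((g⁻¹ : LinearMap.GeneralLinearGroup k M) : M →ₗ[k] M))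
        = (g : M →ₗ[k] M) * N * (((g⁻¹ : LinearMap.GeneralLinearGroup k M) : M →ₗ[k] M) *
          (g : M →ₗ[k] M)) * (N * ((g⁻¹ : LinearMap.GeneralLinearGroup k M) : M →ₗ[k] M)) := by
          simp only [mul_assoc]
      _ = (g : M →ₗ[k] M) * (N * N) * ((g⁻¹ : LinearMap.GeneralLinearGroup k M) : M →ₗ[k] M) := by
          rw [Units.inv_mul, mul_one]; simp only [mul_assoc]
      _ = 0 := by rw [h.1]; simp
  · obtain ⟨x, hx, hxc⟩ := h.2 c
    refine ⟨g * x * g⁻¹, hg x hx, ?_⟩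
    rw [Units.val_mul, Units.val_mul, hxc, mul_add, mul_one, add_mul, Units.mul_inv,
      mul_smul_comm, smul_mul_assoc]

/-- Membership in `𝒬(G)` in terms of `QIn`. -/
lemma mem_quadraticElements_iff {G : Subgroup (LinearMap.GeneralLinearGroup k M)}
    {σ : LinearMap.GeneralLinearGroup k M} :
    σ ∈ quadraticElements G ↔ QIn G ((σ : M →ₗ[k] M) - 1) ∧ (σ : M →ₗ[k] M) - 1 ≠ 0 := by
  constructor
  · rintro ⟨_, ⟨h1, h2⟩, h3⟩
    refine ⟨⟨h1, fun c => ?_⟩, h2⟩
    refine ⟨oneAdd (c • ((σ : M →ₗ[k] M) - 1)) (smul_sq h1 c), h3 ⟨c, rfl⟩, rfl⟩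
  · rintro ⟨h, hne⟩
    refine ⟨h.mem_of_coe (c := 1) (by simp), ⟨h.1, hne⟩, ?_⟩
    rintro τ ⟨c, hc⟩
    exact h.mem_of_coe hc

lemma oneAdd_mem_quadraticElements {G : Subgroup (LinearMap.GeneralLinearGroup k M)}
    {N : M →ₗ[k] M} (h : QIn G N) (hne : N ≠ 0) : oneAdd N h.1 ∈ quadraticElements G := by
  rw [mem_quadraticElements_iff, coe_oneAdd, add_sub_cancel_left]
  exact ⟨h, hne⟩

/-- `N` is a nonzero element with `QIn G N` of minimal rank. -/
def IsMin (G : Subgroup (LinearMap.GeneralLinearGroup k M)) (N : M →ₗ[k] M) : Prop :=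
  QIn G N ∧ N ≠ 0 ∧ ∀ N' : M →ₗ[k] M, QIn G N' → N' ≠ 0 →
    Module.finrank k (LinearMap.range N) ≤ Module.finrank k (LinearMap.range N')

/-- Membership in `𝒬_d(G)` in terms of `IsMin`. -/
lemma mem_minimalQuadraticElements_iff {G : Subgroup (LinearMap.GeneralLinearGroup k M)}
    {σ : LinearMap.GeneralLinearGroup k M} :
    σ ∈ minimalQuadraticElements G ↔ IsMin G ((σ : M →ₗ[k] M) - 1) := by
  constructor
  · rintro ⟨h, hmin⟩
    rw [mem_quadraticElements_iff] at h
    refine ⟨h.1, h.2, fun N' hN' hne => ?_⟩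
    have := hmin _ (oneAdd_mem_quadraticElements hN' hne)
    rw [commutatorRank, commutatorRank, coe_oneAdd, add_sub_cancel_left] at this
    exact this
  · rintro ⟨h, hne, hmin⟩
    refine ⟨mem_quadraticElements_iff.2 ⟨h, hne⟩, fun τ hτ => ?_⟩
    rw [mem_quadraticElements_iff] at hτ
    exact hmin _ hτ.1 hτ.2

lemma oneAdd_mem_minimal {G : Subgroup (LinearMap.GeneralLinearGroup k M)}
    {N : M →ₗ[k] M} (h : IsMin G N) : oneAdd N h.1.1 ∈ minimalQuadraticElements G := by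
  rw [mem_minimalQuadraticElements_iff, coe_oneAdd, add_sub_cancel_left]; exact h

lemma IsMin.qIn {G : Subgroup (LinearMap.GeneralLinearGroup k M)} {N : M →ₗ[k] M}
    (h : IsMin G N) : QIn G N := h.1

lemma IsMin.ne_zero {G : Subgroup (LinearMap.GeneralLinearGroup k M)} {N : M →ₗ[k] M}
    (h : IsMin G N) : N ≠ 0 := h.2.1

lemma IsMin.sq {G : Subgroup (LinearMap.GeneralLinearGroup k M)} {N : M →ₗ[k] M}
    (h : IsMin G N) : N * N = 0 := h.1.1

lemma IsMin.le {G : Subgroup (LinearMap.GeneralLinearGroup k M)} {N N' : M →ₗ[k] M}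
    (h : IsMin G N) (h' : QIn G N') (hne : N' ≠ 0) :
    Module.finrank k (LinearMap.range N) ≤ Module.finrank k (LinearMap.range N') :=
  h.2.2 N' h' hne

/-- All minimal elements have the same rank. -/
lemma IsMin.finrank_eq {G : Subgroup (LinearMap.GeneralLinearGroup k M)} {N N' : M →ₗ[k] M}
    (h : IsMin G N) (h' : IsMin G N') :
    Module.finrank k (LinearMap.range N) = Module.finrank k (LinearMap.range N') :=
  le_antisymm (h.le h'.1 h'.2.1) (h'.le h.1 h.2.1)

/-- An element of rank at most the minimal rank is zero or minimal. -/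
lemma IsMin.of_finrank_le {G : Subgroup (LinearMap.GeneralLinearGroup k M)} {N N' : M →ₗ[k] M}
    (h : IsMin G N) (h' : QIn G N') (hne : N' ≠ 0)
    (hle : Module.finrank k (LinearMap.range N') ≤ Module.finrank k (LinearMap.range N)) :
    IsMin G N' :=
  ⟨h', hne, fun _ h'' hne'' => hle.trans (h.le h'' hne'')⟩

/-- An element of rank less than the minimal rank is zero. -/
lemma IsMin.eq_zero_of_finrank_lt {G : Subgroup (LinearMap.GeneralLinearGroup k M)}
    {N N' : M →ₗ[k] M} (h : IsMin G N) (h' : QIn G N')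
    (hlt : Module.finrank k (LinearMap.range N') < Module.finrank k (LinearMap.range N)) :
    N' = 0 := by
  by_contra hne
  exact absurd (h.le h' hne) (not_le.2 hlt)

variable [FiniteDimensional k M]

/-- If `range N' ≤ range N` and `N'` is in and nonzero, then the ranges agree. -/
lemma IsMin.range_eq {G : Subgroup (LinearMap.GeneralLinearGroup k M)} {N N' : M →ₗ[k] M}
    (h : IsMin G N) (h' : QIn G N') (hne : N' ≠ 0)
    (hr : LinearMap.range N' ≤ LinearMap.range N) : LinearMap.range N' = LinearMap.range N :=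
  Submodule.eq_of_le_of_finrank_le hr (h.le h' hne)

/-- If `ker N ≤ ker N'` and `N'` is in and nonzero, then the kernels agree. -/
lemma IsMin.ker_eq {G : Subgroup (LinearMap.GeneralLinearGroup k M)} {N N' : M →ₗ[k] M}
    (h : IsMin G N) (h' : QIn G N') (hne : N' ≠ 0)
    (hk : LinearMap.ker N ≤ LinearMap.ker N') : LinearMap.ker N' = LinearMap.ker N := by
  refine (Submodule.eq_of_le_of_finrank_le hk ?_).symm
  have h1 := LinearMap.finrank_range_add_finrank_ker N
  have h2 := LinearMap.finrank_range_add_finrank_ker N'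
  have h3 := h.le h' hne
  omega

lemma finrank_range_le_of_ker_le {N N' : M →ₗ[k] M} (hk : LinearMap.ker N ≤ LinearMap.ker N') :
    Module.finrank k (LinearMap.range N') ≤ Module.finrank k (LinearMap.range N) := by
  have h1 := LinearMap.finrank_range_add_finrank_ker N
  have h2 := LinearMap.finrank_range_add_finrank_ker N'
  have h3 := Submodule.finrank_mono hk
  omega

/-- If `ker N ≤ ker N'`, then `N'` is minimal or zero. -/
lemma IsMin.of_ker_le {G : Subgroup (LinearMap.GeneralLinearGroup k M)} {N N' : M →ₗ[k] M}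
    (h : IsMin G N) (h' : QIn G N') (hne : N' ≠ 0)
    (hk : LinearMap.ker N ≤ LinearMap.ker N') : IsMin G N' :=
  h.of_finrank_le h' hne (finrank_range_le_of_ker_le hk)

lemma IsMin.of_range_le {G : Subgroup (LinearMap.GeneralLinearGroup k M)} {N N' : M →ₗ[k] M}
    (h : IsMin G N) (h' : QIn G N') (hne : N' ≠ 0)
    (hk : LinearMap.range N' ≤ LinearMap.range N) : IsMin G N' :=
  h.of_finrank_le h' hne (Submodule.finrank_mono hk)

/-! ### The classes `E(σ)` -/

/-- The subgroup of all `1 + N'` with `QIn G N'`, `ker N ≤ ker N'`, `range N' ≤ range N`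
(`N` square zero). -/
def cls (G : Subgroup (LinearMap.GeneralLinearGroup k M)) (N : M →ₗ[k] M) (hN : N * N = 0) :
    Subgroup (LinearMap.GeneralLinearGroup k M) where
  carrier := {τ | QIn G ((τ : M →ₗ[k] M) - 1) ∧
    LinearMap.ker N ≤ LinearMap.ker ((τ : M →ₗ[k] M) - 1) ∧
    LinearMap.range ((τ : M →ₗ[k] M) - 1) ≤ LinearMap.range N}
  one_mem' := by
    refine ⟨?_, ?_, ?_⟩
    · rw [Units.val_one, sub_self]; exact QIn.zero G
    · rw [Units.val_one, sub_self, LinearMap.ker_zero]; exact le_top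
    · rw [Units.val_one, sub_self, LinearMap.range_zero]; exact bot_le
  mul_mem' := by
    rintro a b ⟨ha, hak, har⟩ ⟨hb, hbk, hbr⟩
    have hrk : LinearMap.range N ≤ LinearMap.ker N := by
      rintro _ ⟨m, rfl⟩
      rw [LinearMap.mem_ker, ← Module.End.mul_apply, hN, LinearMap.zero_apply]
    have key : ∀ A B : M →ₗ[k] M, LinearMap.ker N ≤ LinearMap.ker A →
        LinearMap.range B ≤ LinearMap.range N → A * B = 0 := by
      intro A B hA hB
      ext m
      have : B m ∈ LinearMap.ker A := hA (hrk (hB ⟨m, rfl⟩))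
      simpa using this
    have hab := key _ _ hak hbr
    have hba := key _ _ hbk har
    have e : ((a * b : LinearMap.GeneralLinearGroup k M) : M →ₗ[k] M) - 1 =
        ((a : M →ₗ[k] M) - 1) + ((b : M →ₗ[k] M) - 1) := by
      have : ((a : M →ₗ[k] M) - 1) * ((b : M →ₗ[k] M) - 1) = 0 := hab
      rw [sub_mul, mul_sub, mul_one, one_mul] at this
      rw [Units.val_mul]
      have h2 : (a : M →ₗ[k] M) * (b : M →ₗ[k] M) = (a : M →ₗ[k] M) + ((b : M →ₗ[k] M) - 1) := by
        rw [← sub_eq_zero, ← this]; abel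
      rw [h2]; abel
    refine ⟨?_, ?_, ?_⟩
    · rw [e]; exact ha.add hb hab hba
    · rw [e]
      intro m hm
      rw [LinearMap.mem_ker, LinearMap.add_apply, LinearMap.mem_ker.1 (hak hm),
        LinearMap.mem_ker.1 (hbk hm), add_zero]
    · rw [e]
      rintro _ ⟨m, rfl⟩
      rw [LinearMap.add_apply]
      exact Submodule.add_mem _ (har ⟨m, rfl⟩) (hbr ⟨m, rfl⟩)
  inv_mem' := by
    rintro a ⟨ha, hak, har⟩
    have e : ((a⁻¹ : LinearMap.GeneralLinearGroup k M) : M →ₗ[k] M) - 1 =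
        -((a : M →ₗ[k] M) - 1) := by
      have h1 : a = oneAdd ((a : M →ₗ[k] M) - 1) ha.1 := by
        rw [eq_oneAdd_iff]; abel
      conv_lhs => rw [h1]
      rw [coe_oneAdd_inv]; abel
    refine ⟨?_, ?_, ?_⟩
    · rw [e]; exact ha.neg
    · rw [e, LinearMap.ker_neg]; exact hak
    · rw [e, LinearMap.range_neg]; exact har

omit [FiniteDimensional k M] in
lemma mem_cls {G : Subgroup (LinearMap.GeneralLinearGroup k M)} {N : M →ₗ[k] M} {hN : N * N = 0}
    {τ : LinearMap.GeneralLinearGroup k M} :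
    τ ∈ cls G N hN ↔ QIn G ((τ : M →ₗ[k] M) - 1) ∧
      LinearMap.ker N ≤ LinearMap.ker ((τ : M →ₗ[k] M) - 1) ∧
      LinearMap.range ((τ : M →ₗ[k] M) - 1) ≤ LinearMap.range N := Iff.rfl

/-- Members of the class `E_σ`. -/
lemma mem_sameActionClass_iff {G : Subgroup (LinearMap.GeneralLinearGroup k M)}
    {σ τ : LinearMap.GeneralLinearGroup k M} (hσ : σ ∈ minimalQuadraticElements G) :
    τ ∈ sameActionClass G σ ↔ QIn G ((τ : M →ₗ[k] M) - 1) ∧ (τ : M →ₗ[k] M) - 1 ≠ 0 ∧
      LinearMap.ker ((σ : M →ₗ[k] M) - 1) ≤ LinearMap.ker ((τ : M →ₗ[k] M) - 1) ∧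
      LinearMap.range ((τ : M →ₗ[k] M) - 1) ≤ LinearMap.range ((σ : M →ₗ[k] M) - 1) := by
  rw [mem_minimalQuadraticElements_iff] at hσ
  constructor
  · rintro ⟨h1, h2, h3⟩
    rw [mem_minimalQuadraticElements_iff] at h1
    exact ⟨h1.1, h1.2.1, h2.ge, h3.le⟩
  · rintro ⟨h1, h2, h3, h4⟩
    refine ⟨?_, hσ.ker_eq h1 h2 h3, hσ.range_eq h1 h2 h4⟩
    rw [mem_minimalQuadraticElements_iff]
    exact hσ.of_ker_le h1 h2 h3

/-- **`E(σ)` is the subgroup of all `1 + N'` in `G` with `ker N ≤ ker N'`, `range N' ≤ range N`.** -/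
lemma sameActionSubgroup_eq_cls {G : Subgroup (LinearMap.GeneralLinearGroup k M)}
    {σ : LinearMap.GeneralLinearGroup k M} (hσ : σ ∈ minimalQuadraticElements G)
    (h : ((σ : M →ₗ[k] M) - 1) * ((σ : M →ₗ[k] M) - 1) = 0) :
    sameActionSubgroup G σ = cls G ((σ : M →ₗ[k] M) - 1) h := by
  apply le_antisymm
  · rw [sameActionSubgroup, Subgroup.closure_le]
    intro τ hτ
    rw [mem_sameActionClass_iff hσ] at hτ
    exact ⟨hτ.1, hτ.2.2.1, hτ.2.2.2⟩
  · intro τ hτ
    rw [mem_cls] at hτ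
    by_cases h1 : (τ : M →ₗ[k] M) - 1 = 0
    · have : τ = 1 := Units.ext (by rw [Units.val_one]; exact sub_eq_zero.1 h1)
      rw [this]; exact Subgroup.one_mem _
    · exact Subgroup.subset_closure ((mem_sameActionClass_iff hσ).2 ⟨hτ.1, h1, hτ.2.1, hτ.2.2⟩)

omit [FiniteDimensional k M] in
lemma sq_of_mem_minimal {G : Subgroup (LinearMap.GeneralLinearGroup k M)}
    {σ : LinearMap.GeneralLinearGroup k M} (hσ : σ ∈ minimalQuadraticElements G) :
    ((σ : M →ₗ[k] M) - 1) * ((σ : M →ₗ[k] M) - 1) = 0 :=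
  (mem_minimalQuadraticElements_iff.1 hσ).1.1

lemma mem_sameActionSubgroup_iff {G : Subgroup (LinearMap.GeneralLinearGroup k M)}
    {σ τ : LinearMap.GeneralLinearGroup k M} (hσ : σ ∈ minimalQuadraticElements G) :
    τ ∈ sameActionSubgroup G σ ↔ QIn G ((τ : M →ₗ[k] M) - 1) ∧
      LinearMap.ker ((σ : M →ₗ[k] M) - 1) ≤ LinearMap.ker ((τ : M →ₗ[k] M) - 1) ∧
      LinearMap.range ((τ : M →ₗ[k] M) - 1) ≤ LinearMap.range ((σ : M →ₗ[k] M) - 1) := by
  rw [sameActionSubgroup_eq_cls hσ (sq_of_mem_minimal hσ), mem_cls]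

lemma mem_sameActionSubgroup_iff' {G : Subgroup (LinearMap.GeneralLinearGroup k M)}
    {σ τ : LinearMap.GeneralLinearGroup k M} (hσ : σ ∈ minimalQuadraticElements G) :
    τ ∈ sameActionSubgroup G σ ↔ τ ∈ sameActionClass G σ ∨ τ = 1 := by
  rw [mem_sameActionSubgroup_iff hσ, mem_sameActionClass_iff hσ]
  constructor
  · intro h
    by_cases h1 : (τ : M →ₗ[k] M) - 1 = 0
    · right; exact Units.ext (by rw [Units.val_one]; exact sub_eq_zero.1 h1)
    · left; exact ⟨h.1, h1, h.2⟩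
  · rintro (h | rfl)
    · exact ⟨h.1, h.2.2⟩
    · rw [Units.val_one, sub_self, LinearMap.ker_zero, LinearMap.range_zero]
      exact ⟨QIn.zero G, le_top, bot_le⟩

/-- Two classes with the same kernel and range agree. -/
lemma sameActionSubgroup_congr {G : Subgroup (LinearMap.GeneralLinearGroup k M)}
    {σ τ : LinearMap.GeneralLinearGroup k M} (hσ : σ ∈ minimalQuadraticElements G)
    (hτ : τ ∈ minimalQuadraticElements G)
    (hk : LinearMap.ker ((σ : M →ₗ[k] M) - 1) = LinearMap.ker ((τ : M →ₗ[k] M) - 1))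
    (hr : LinearMap.range ((σ : M →ₗ[k] M) - 1) = LinearMap.range ((τ : M →ₗ[k] M) - 1)) :
    sameActionSubgroup G σ = sameActionSubgroup G τ := by
  ext x
  rw [mem_sameActionSubgroup_iff hσ, mem_sameActionSubgroup_iff hτ, hk, hr]

lemma self_mem_sameActionSubgroup {G : Subgroup (LinearMap.GeneralLinearGroup k M)}
    {σ : LinearMap.GeneralLinearGroup k M} (hσ : σ ∈ minimalQuadraticElements G) :
    σ ∈ sameActionSubgroup G σ := by
  rw [mem_sameActionSubgroup_iff hσ]
  exact ⟨(mem_minimalQuadraticElements_iff.1 hσ).1, le_rfl, le_rfl⟩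

/-- A nonidentity element of `E(σ)` is minimal. -/
lemma mem_minimal_of_mem {G : Subgroup (LinearMap.GeneralLinearGroup k M)}
    {σ τ : LinearMap.GeneralLinearGroup k M} (hσ : σ ∈ minimalQuadraticElements G)
    (hτ : τ ∈ sameActionSubgroup G σ) (h1 : τ ≠ 1) : τ ∈ minimalQuadraticElements G := by
  rw [mem_sameActionSubgroup_iff' hσ] at hτ
  exact (hτ.resolve_right h1).1

lemma ker_eq_of_mem {G : Subgroup (LinearMap.GeneralLinearGroup k M)}
    {σ τ : LinearMap.GeneralLinearGroup k M} (hσ : σ ∈ minimalQuadraticElements G)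
    (hτ : τ ∈ sameActionSubgroup G σ) (h1 : τ ≠ 1) :
    LinearMap.ker ((τ : M →ₗ[k] M) - 1) = LinearMap.ker ((σ : M →ₗ[k] M) - 1) := by
  rw [mem_sameActionSubgroup_iff' hσ] at hτ
  exact (hτ.resolve_right h1).2.1

lemma range_eq_of_mem {G : Subgroup (LinearMap.GeneralLinearGroup k M)}
    {σ τ : LinearMap.GeneralLinearGroup k M} (hσ : σ ∈ minimalQuadraticElements G)
    (hτ : τ ∈ sameActionSubgroup G σ) (h1 : τ ≠ 1) :
    LinearMap.range ((τ : M →ₗ[k] M) - 1) = LinearMap.range ((σ : M →ₗ[k] M) - 1) := by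
  rw [mem_sameActionSubgroup_iff' hσ] at hτ
  exact (hτ.resolve_right h1).2.2

/-- `E(τ) = E(σ)` for each nonidentity `τ ∈ E(σ)`. -/
lemma sameActionSubgroup_eq_of_mem {G : Subgroup (LinearMap.GeneralLinearGroup k M)}
    {σ τ : LinearMap.GeneralLinearGroup k M} (hσ : σ ∈ minimalQuadraticElements G)
    (hτ : τ ∈ sameActionSubgroup G σ) (h1 : τ ≠ 1) :
    sameActionSubgroup G τ = sameActionSubgroup G σ :=
  sameActionSubgroup_congr (mem_minimal_of_mem hσ hτ h1) hσ (ker_eq_of_mem hσ hτ h1)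
    (range_eq_of_mem hσ hτ h1)

lemma sameActionSubgroup_le {G : Subgroup (LinearMap.GeneralLinearGroup k M)}
    {σ : LinearMap.GeneralLinearGroup k M} (hσ : σ ∈ minimalQuadraticElements G) :
    sameActionSubgroup G σ ≤ G := by
  intro τ hτ
  rw [mem_sameActionSubgroup_iff hσ] at hτ
  exact hτ.1.mem_of_coe (c := 1) (by simp)

/-- Two members of `Σ(G)` with a common nonidentity element agree. -/
lemma eq_of_mem_of_mem {G : Subgroup (LinearMap.GeneralLinearGroup k M)}
    {A B : Subgroup (LinearMap.GeneralLinearGroup k M)} (hA : A ∈ quadraticRootSubgroups G)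
    (hB : B ∈ quadraticRootSubgroups G) {τ : LinearMap.GeneralLinearGroup k M} (h1 : τ ≠ 1)
    (hτA : τ ∈ A) (hτB : τ ∈ B) : A = B := by
  obtain ⟨σ, hσ, rfl⟩ := hA
  obtain ⟨ρ, hρ, rfl⟩ := hB
  rw [← sameActionSubgroup_eq_of_mem hσ hτA h1, ← sameActionSubgroup_eq_of_mem hρ hτB h1]

lemma eq_sameActionSubgroup {G : Subgroup (LinearMap.GeneralLinearGroup k M)}
    {A : Subgroup (LinearMap.GeneralLinearGroup k M)} (hA : A ∈ quadraticRootSubgroups G)
    {τ : LinearMap.GeneralLinearGroup k M} (h1 : τ ≠ 1) (hτA : τ ∈ A) :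
    τ ∈ minimalQuadraticElements G ∧ A = sameActionSubgroup G τ := by
  obtain ⟨σ, hσ, rfl⟩ := hA
  exact ⟨mem_minimal_of_mem hσ hτA h1, (sameActionSubgroup_eq_of_mem hσ hτA h1).symm⟩

/-! ### Conjugation -/

omit [FiniteDimensional k M] in
lemma coe_conj_sub_one (g σ : LinearMap.GeneralLinearGroup k M) :
    ((g * σ * g⁻¹ : LinearMap.GeneralLinearGroup k M) : M →ₗ[k] M) - 1 =
      (g : M →ₗ[k] M) * ((σ : M →ₗ[k] M) - 1) *
        ((g⁻¹ : LinearMap.GeneralLinearGroup k M) : M →ₗ[k] M) := by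
  rw [mul_sub, mul_one, sub_mul, Units.mul_inv, Units.val_mul, Units.val_mul]

omit [FiniteDimensional k M] in
lemma ker_conj (g : LinearMap.GeneralLinearGroup k M) (N : M →ₗ[k] M) :
    LinearMap.ker ((g : M →ₗ[k] M) * N *
      ((g⁻¹ : LinearMap.GeneralLinearGroup k M) : M →ₗ[k] M)) =
      (LinearMap.ker N).map (g : M →ₗ[k] M) := by
  ext m
  rw [LinearMap.mem_ker, Submodule.mem_map]
  constructor
  · intro h
    refine ⟨((g⁻¹ : LinearMap.GeneralLinearGroup k M) : M →ₗ[k] M) m, ?_, ?_⟩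
    · rw [LinearMap.mem_ker]
      have := congrArg (fun x => ((g⁻¹ : LinearMap.GeneralLinearGroup k M) : M →ₗ[k] M) x) h
      simp only [Module.End.mul_apply, map_zero] at this
      rw [← Module.End.mul_apply, Units.inv_mul, Module.End.one_apply] at this
      exact this
    · rw [← Module.End.mul_apply, Units.mul_inv, Module.End.one_apply]
  · rintro ⟨x, hx, rfl⟩
    rw [Module.End.mul_apply, ← Module.End.mul_apply _ (g : M →ₗ[k] M) x, Units.inv_mul,
      Module.End.one_apply, Module.End.mul_apply, LinearMap.mem_ker.1 hx, map_zero]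

omit [FiniteDimensional k M] in
lemma range_conj (g : LinearMap.GeneralLinearGroup k M) (N : M →ₗ[k] M) :
    LinearMap.range ((g : M →ₗ[k] M) * N *
      ((g⁻¹ : LinearMap.GeneralLinearGroup k M) : M →ₗ[k] M)) =
      (LinearMap.range N).map (g : M →ₗ[k] M) := by
  ext m
  rw [LinearMap.mem_range, Submodule.mem_map]
  constructor
  · rintro ⟨x, rfl⟩
    exact ⟨N (((g⁻¹ : LinearMap.GeneralLinearGroup k M) : M →ₗ[k] M) x), ⟨_, rfl⟩, rfl⟩
  · rintro ⟨_, ⟨x, rfl⟩, rfl⟩
    refine ⟨(g : M →ₗ[k] M) x, ?_⟩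
    rw [Module.End.mul_apply, ← Module.End.mul_apply _ (g : M →ₗ[k] M) x, Units.inv_mul,
      Module.End.one_apply, Module.End.mul_apply]

omit [FiniteDimensional k M] in
lemma IsMin.conj {G : Subgroup (LinearMap.GeneralLinearGroup k M)} {N : M →ₗ[k] M}
    (h : IsMin G N) {g : LinearMap.GeneralLinearGroup k M} (hg : g ∈ G) :
    IsMin G ((g : M →ₗ[k] M) * N * ((g⁻¹ : LinearMap.GeneralLinearGroup k M) : M →ₗ[k] M)) := by
  refine h.of_finrank_le (h.1.conj hg) ?_ ?_
  · intro h0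
    apply h.2.1
    have : ((g⁻¹ : LinearMap.GeneralLinearGroup k M) : M →ₗ[k] M) *
        ((g : M →ₗ[k] M) * N * ((g⁻¹ : LinearMap.GeneralLinearGroup k M) : M →ₗ[k] M)) *
        (g : M →ₗ[k] M) = N := by
      rw [mul_assoc, mul_assoc, mul_assoc, Units.inv_mul, mul_one, ← mul_assoc, Units.inv_mul,
        one_mul]
    rw [← this, h0]; simp
  · rw [range_conj]
    have hinj : Function.Injective (g : M →ₗ[k] M) := by
      intro x y hxy
      have := congrArg (fun x => ((g⁻¹ : LinearMap.GeneralLinearGroup k M) : M →ₗ[k] M) x) hxy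
      rwa [← Module.End.mul_apply, ← Module.End.mul_apply, Units.inv_mul, Module.End.one_apply,
        Module.End.one_apply] at this
    exact (LinearEquiv.finrank_eq (Submodule.equivMapOfInjective _ hinj _)).ge

omit [FiniteDimensional k M] in
lemma conj_mem_minimal {G : Subgroup (LinearMap.GeneralLinearGroup k M)}
    {σ : LinearMap.GeneralLinearGroup k M} (hσ : σ ∈ minimalQuadraticElements G)
    {g : LinearMap.GeneralLinearGroup k M} (hg : g ∈ G) :
    g * σ * g⁻¹ ∈ minimalQuadraticElements G := by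
  rw [mem_minimalQuadraticElements_iff] at hσ ⊢
  rw [coe_conj_sub_one]
  exact hσ.conj hg

omit [FiniteDimensional k M] in
lemma conj_mem_quadratic {G : Subgroup (LinearMap.GeneralLinearGroup k M)}
    {σ : LinearMap.GeneralLinearGroup k M} (hσ : σ ∈ quadraticElements G)
    {g : LinearMap.GeneralLinearGroup k M} (hg : g ∈ G) :
    g * σ * g⁻¹ ∈ quadraticElements G := by
  rw [mem_quadraticElements_iff] at hσ ⊢
  rw [coe_conj_sub_one]
  refine ⟨hσ.1.conj hg, fun h0 => hσ.2 ?_⟩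
  have : ((g⁻¹ : LinearMap.GeneralLinearGroup k M) : M →ₗ[k] M) *
      ((g : M →ₗ[k] M) * ((σ : M →ₗ[k] M) - 1) *
        ((g⁻¹ : LinearMap.GeneralLinearGroup k M) : M →ₗ[k] M)) *
      (g : M →ₗ[k] M) = (σ : M →ₗ[k] M) - 1 := by
    rw [mul_assoc, mul_assoc, mul_assoc, Units.inv_mul, mul_one, ← mul_assoc, Units.inv_mul,
      one_mul]
  rw [← this, h0]; simp

/-- Conjugation of the classes `E(σ)`. -/
lemma conjBy_sameActionSubgroup {G : Subgroup (LinearMap.GeneralLinearGroup k M)}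
    {σ : LinearMap.GeneralLinearGroup k M} (hσ : σ ∈ minimalQuadraticElements G)
    {g : LinearMap.GeneralLinearGroup k M} (hg : g ∈ G) :
    conjBy (sameActionSubgroup G σ) g = sameActionSubgroup G (g * σ * g⁻¹) := by
  have hle : ∀ {σ : LinearMap.GeneralLinearGroup k M}, σ ∈ minimalQuadraticElements G →
      ∀ {g : LinearMap.GeneralLinearGroup k M}, g ∈ G → ∀ x ∈ sameActionSubgroup G σ,
      g * x * g⁻¹ ∈ sameActionSubgroup G (g * σ * g⁻¹) := by
    intro σ hσ g hg x hx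
    rw [mem_sameActionSubgroup_iff hσ] at hx
    rw [mem_sameActionSubgroup_iff (conj_mem_minimal hσ hg), coe_conj_sub_one, coe_conj_sub_one,
      ker_conj, ker_conj, range_conj, range_conj]
    exact ⟨hx.1.conj hg, Submodule.map_mono hx.2.1, Submodule.map_mono hx.2.2⟩
  apply le_antisymm
  · rintro _ ⟨x, hx, rfl⟩
    exact hle hσ hg x hx
  · intro y hy
    have h2 := hle (conj_mem_minimal hσ hg) (G.inv_mem hg) y hy
    refine ⟨g⁻¹ * y * g⁻¹⁻¹, ?_, ?_⟩
    · have : g⁻¹ * (g * σ * g⁻¹) * g⁻¹⁻¹ = σ := by group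
      rw [this] at h2; exact h2
    · show g * (g⁻¹ * y * g⁻¹⁻¹) * g⁻¹ = y
      group

lemma conjBy_mem_quadraticRootSubgroups {G : Subgroup (LinearMap.GeneralLinearGroup k M)}
    {A : Subgroup (LinearMap.GeneralLinearGroup k M)} (hA : A ∈ quadraticRootSubgroups G)
    {g : LinearMap.GeneralLinearGroup k M} (hg : g ∈ G) :
    conjBy A g ∈ quadraticRootSubgroups G := by
  obtain ⟨σ, hσ, rfl⟩ := hA
  exact ⟨_, conj_mem_minimal hσ hg, conjBy_sameActionSubgroup hσ hg⟩

end Basics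

end Cfsg.Agent.H740
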