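import Mathlib
import Cfsg.Agent.H740.Unip

/-!
# The linear Baer–Suzuki theorem

`isUnipotentOn_iSup`: a set `W` of subgroups of `G ≤ GL(M)`, invariant under conjugation by `G`,
any two members of which generate a unipotent group, generates a unipotent group.
-/

set_option autoImplicit false

namespace Cfsg.Agent.H740

open Cfsg

section BS

variable {k : Type*} [Field k] {M : Type*} [AddCommGroup M] [Module k M]

/-- The subgroup generated by the members of `S`. -/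
def sp (S : Set (Subgroup (LinearMap.GeneralLinearGroup k M))) :
    Subgroup (LinearMap.GeneralLinearGroup k M) := ⨆ A ∈ S, A

lemma le_sp {S : Set (Subgroup (LinearMap.GeneralLinearGroup k M))}
    {A : Subgroup (LinearMap.GeneralLinearGroup k M)} (hA : A ∈ S) : A ≤ sp S :=
  le_iSup₂_of_le A hA le_rfl

lemma sp_le {S : Set (Subgroup (LinearMap.GeneralLinearGroup k M))}
    {K : Subgroup (LinearMap.GeneralLinearGroup k M)} (h : ∀ A ∈ S, A ≤ K) : sp S ≤ K :=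
  iSup₂_le h

lemma sp_mono {S T : Set (Subgroup (LinearMap.GeneralLinearGroup k M))} (h : S ⊆ T) :
    sp S ≤ sp T := sp_le fun _ hA => le_sp (h hA)

lemma augSpan_sp_le {S : Set (Subgroup (LinearMap.GeneralLinearGroup k M))}
    {J : Submodule k (M →ₗ[k] M)} (hJ : J * J ≤ J)
    (h : ∀ A ∈ S, ∀ a ∈ A, (a : M →ₗ[k] M) - 1 ∈ J) : augSpan (sp S) ≤ J := by
  rw [augSpan, Submodule.span_le]
  rintro _ ⟨g, hg, rfl⟩
  rw [sp, iSup_subtype'] at hg
  refine Subgroup.iSup_induction _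
    (C := fun g : LinearMap.GeneralLinearGroup k M => (g : M →ₗ[k] M) - 1 ∈ J) hg ?_ ?_ ?_
  · rintro ⟨A, hA⟩ a ha
    exact h A hA a ha
  · simp
  · intro a b ha hb
    have e : ((a * b : LinearMap.GeneralLinearGroup k M) : M →ₗ[k] M) - 1 =
        ((a : M →ₗ[k] M) - 1) * ((b : M →ₗ[k] M) - 1) + ((a : M →ₗ[k] M) - 1) +
          ((b : M →ₗ[k] M) - 1) := by
      rw [sub_mul, mul_sub, mul_one, one_mul, Units.val_mul]; abel
    rw [e]
    exact add_mem (add_mem (hJ (Submodule.mul_mem_mul ha hb)) ha) hb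

variable (W : Set (Subgroup (LinearMap.GeneralLinearGroup k M)))

/-- `S` is a subset of `W` generating a unipotent group. -/
def Good (S : Set (Subgroup (LinearMap.GeneralLinearGroup k M))) : Prop :=
  S ⊆ W ∧ IsUnipotentOn (sp S)

/-- Maximal good sets. -/
def Maxi (S : Set (Subgroup (LinearMap.GeneralLinearGroup k M))) : Prop :=
  Good W S ∧ ∀ T, Good W T → S ⊆ T → T ⊆ S

variable {W}

lemma Good.mono {S T : Set (Subgroup (LinearMap.GeneralLinearGroup k M))} (hT : Good W T)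
    (h : S ⊆ T) : Good W S :=
  ⟨h.trans hT.1, isUnipotentOn_mono (sp_mono h) hT.2⟩

lemma Good.closed {S : Set (Subgroup (LinearMap.GeneralLinearGroup k M))} (hS : Good W S) :
    Good W {A | A ∈ W ∧ ∀ a ∈ A, (a : M →ₗ[k] M) - 1 ∈ augSpan (sp S)} := by
  refine ⟨fun A hA => hA.1, ?_⟩
  have h1 := hS.2
  rw [isUnipotentOn_iff] at h1 ⊢
  exact nilpotent_of_le (augSpan_sp_le (augSpan_mul_le _) fun A hA => hA.2) h1

lemma Maxi.mem {S : Set (Subgroup (LinearMap.GeneralLinearGroup k M))} (hS : Maxi W S)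
    {A : Subgroup (LinearMap.GeneralLinearGroup k M)} (hA : A ∈ W)
    (h : ∀ a ∈ A, (a : M →ₗ[k] M) - 1 ∈ augSpan (sp S)) : A ∈ S := by
  refine hS.2 _ hS.1.closed ?_ ⟨hA, h⟩
  intro B hB
  exact ⟨hS.1.1 hB, fun b hb => sub_one_mem_augSpan (le_sp hB hb)⟩

lemma Maxi.mem_of_le {S : Set (Subgroup (LinearMap.GeneralLinearGroup k M))} (hS : Maxi W S)
    {A : Subgroup (LinearMap.GeneralLinearGroup k M)} (hA : A ∈ W) (h : A ≤ sp S) : A ∈ S :=
  hS.mem hA fun _ ha => sub_one_mem_augSpan (h ha)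

variable [FiniteDimensional k M]

lemma exists_maxi {S : Set (Subgroup (LinearMap.GeneralLinearGroup k M))} (hS : Good W S) :
    ∃ T, S ⊆ T ∧ Maxi W T := by
  set N : Set ℕ := {n | ∃ T, Good W T ∧ S ⊆ T ∧
    Module.finrank k (augSpan (sp T)) = n} with hN
  have hne : N.Nonempty := ⟨_, S, hS, le_rfl, rfl⟩
  have hbdd : BddAbove N := by
    refine ⟨Module.finrank k (M →ₗ[k] M), ?_⟩
    rintro _ ⟨T, _, _, rfl⟩
    exact Submodule.finrank_le _
  obtain ⟨T, hT, hST, hTn⟩ := Nat.sSup_mem hne hbdd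
  refine ⟨_, ?_, hT.closed, ?_⟩
  · intro A hA
    exact ⟨hS.1 hA, fun a ha => sub_one_mem_augSpan (le_sp (hST hA) ha)⟩
  · intro T' hT' hsub A hA
    refine ⟨hT'.1 hA, fun a ha => ?_⟩
    have hTT' : T ⊆ T' := fun B hB =>
      hsub ⟨hT.1 hB, fun b hb => sub_one_mem_augSpan (le_sp hB hb)⟩
    have h1 : augSpan (sp T) ≤ augSpan (sp T') := augSpan_mono (sp_mono hTT')
    have h2 : Module.finrank k (augSpan (sp T')) ≤ Module.finrank k (augSpan (sp T)) := by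
      rw [hTn]
      exact le_csSup hbdd ⟨T', hT', hST.trans hTT', rfl⟩
    rw [Submodule.eq_of_le_of_finrank_le h1 h2]
    exact sub_one_mem_augSpan (le_sp hA ha)

omit [FiniteDimensional k M] in
/-- The key step: in a maximal good set `S₁`, a proper "intersection" `S₁ ∩ S₂` is normalised by a
member of `S₁` outside. -/
lemma exists_normalizing {G : Subgroup (LinearMap.GeneralLinearGroup k M)}
    (hWG : ∀ A ∈ W, A ≤ G) (hWconj : ∀ A ∈ W, ∀ g ∈ G, conjBy A g ∈ W)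
    {S₁ S₂ : Set (Subgroup (LinearMap.GeneralLinearGroup k M))} (h1 : Maxi W S₁)
    (h2 : Maxi W S₂) (hne : S₁ ≠ S₂) : ∃ A ∈ S₁, A ∉ S₂ ∧
      ∀ a ∈ A, ∀ x ∈ sp (S₁ ∩ S₂), a * x * a⁻¹ ∈ sp (S₁ ∩ S₂) := by
  have hD1 : sp (S₁ ∩ S₂) ≤ sp S₁ := sp_mono Set.inter_subset_left
  have hD2 : sp (S₁ ∩ S₂) ≤ sp S₂ := sp_mono Set.inter_subset_right
  have hPD : ∀ A ∈ W, A ≤ sp (S₁ ∩ S₂) → A ∈ S₁ ∩ S₂ := fun A hA hle =>
    ⟨h1.mem_of_le hA (hle.trans hD1), h2.mem_of_le hA (hle.trans hD2)⟩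
  have hPH : ¬ ∀ A ∈ W, A ≤ sp S₁ → A ∈ S₁ ∩ S₂ := by
    intro hP
    apply hne
    have : S₁ ⊆ S₂ := fun A hA => (hP A (h1.1.1 hA) (le_sp hA)).2
    exact Set.Subset.antisymm this (h1.2 _ h2.1 this)
  obtain ⟨E, E', hDE, hEE', hE'H, hnorm, hPE, hPE'⟩ :=
    exists_step hD1 h1.1.2 (fun E => ∀ A ∈ W, A ≤ E → A ∈ S₁ ∩ S₂) hPD hPH
  push Not at hPE'
  obtain ⟨A, hA, hAE', hAD⟩ := hPE'
  have hAS : A ∈ S₁ := h1.mem_of_le hA (hAE'.trans hE'H)
  refine ⟨A, hAS, fun h => hAD ⟨hAS, h⟩, ?_⟩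
  intro a ha x hx
  have hle : (sp (S₁ ∩ S₂)).map (MulAut.conj a).toMonoidHom ≤ sp (S₁ ∩ S₂) := by
    rw [sp, Subgroup.map_iSup]
    refine iSup_le fun B => ?_
    rw [Subgroup.map_iSup]
    refine iSup_le fun hB => ?_
    refine le_sp (S := S₁ ∩ S₂) (hPE (conjBy B a) (hWconj B (h1.1.1 hB.1) a (hWG A hA ha)) ?_)
    rintro _ ⟨b, hb, rfl⟩
    exact hnorm a (hAE' ha) b (hDE (le_sp hB hb))
  exact hle ⟨x, hx, rfl⟩

/-- **The linear Baer–Suzuki theorem.** -/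
theorem isUnipotentOn_iSup {G : Subgroup (LinearMap.GeneralLinearGroup k M)}
    (hWG : ∀ A ∈ W, A ≤ G) (hWW : ∀ A ∈ W, ∀ B ∈ W, IsUnipotentOn (A ⊔ B))
    (hWconj : ∀ A ∈ W, ∀ g ∈ G, conjBy A g ∈ W) : IsUnipotentOn (⨆ A ∈ W, A) := by
  by_contra hcon
  have hsing : ∀ A ∈ W, Good W {A} := by
    intro A hA
    refine ⟨by simpa using hA, ?_⟩
    have : sp {A} = A := by simp [sp]
    rw [this]
    exact isUnipotentOn_mono le_sup_left (hWW A hA A hA)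
  have hempty : Good W (∅ : Set (Subgroup (LinearMap.GeneralLinearGroup k M))) := by
    refine ⟨Set.empty_subset _, ?_⟩
    have : sp (∅ : Set (Subgroup (LinearMap.GeneralLinearGroup k M))) = ⊥ := by simp [sp]
    rw [this]; exact isUnipotentOn_bot
  -- two distinct maximal good sets
  obtain ⟨T₁, -, hT₁⟩ := exists_maxi hempty
  have hex : ∃ B ∈ W, B ∉ T₁ := by
    by_contra hno
    push Not at hno
    exact hcon (isUnipotentOn_mono (sp_mono hno) hT₁.1.2)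
  obtain ⟨B, hB, hBT₁⟩ := hex
  obtain ⟨T₂, hBT₂, hT₂⟩ := exists_maxi (hsing B hB)
  have hT₁₂ : T₁ ≠ T₂ := by
    rintro rfl
    exact hBT₁ (hBT₂ rfl)
  set N : Set ℕ := {n | ∃ S₁ S₂, Maxi W S₁ ∧ Maxi W S₂ ∧ S₁ ≠ S₂ ∧
    Module.finrank k (augSpan (sp (S₁ ∩ S₂))) = n} with hN
  have hne : N.Nonempty := ⟨_, T₁, T₂, hT₁, hT₂, hT₁₂, rfl⟩
  have hbdd : BddAbove N := by
    refine ⟨Module.finrank k (M →ₗ[k] M), ?_⟩
    rintro _ ⟨_, _, _, _, _, rfl⟩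
    exact Submodule.finrank_le _
  obtain ⟨S₁, S₂, h1, h2, h12, hn⟩ := Nat.sSup_mem hne hbdd
  obtain ⟨A₁, hA₁, hA₁', hA₁n⟩ := exists_normalizing hWG hWconj h1 h2 h12
  obtain ⟨A₂, hA₂, hA₂', hA₂n⟩ := exists_normalizing hWG hWconj h2 h1 h12.symm
  rw [Set.inter_comm] at hA₂n
  have hnorm : ∀ A : Subgroup (LinearMap.GeneralLinearGroup k M),
      (∀ a ∈ A, ∀ x ∈ sp (S₁ ∩ S₂), a * x * a⁻¹ ∈ sp (S₁ ∩ S₂)) →
      A ≤ Subgroup.normalizer (sp (S₁ ∩ S₂) : Set (LinearMap.GeneralLinearGroup k M)) := by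
    intro A hA a ha
    rw [Subgroup.mem_normalizer_iff]
    intro x
    constructor
    · intro hx; exact hA a ha x hx
    · intro hx
      have := hA a⁻¹ (A.inv_mem ha) _ hx
      have e : a⁻¹ * (a * x * a⁻¹) * a⁻¹⁻¹ = x := by group
      rwa [e] at this
  have hU : IsUnipotentOn (sp (S₁ ∩ S₂) ⊔ (A₁ ⊔ A₂)) := by
    refine isUnipotentOn_sup (isUnipotentOn_mono (sp_mono Set.inter_subset_left) h1.1.2)
      (hWW A₁ (h1.1.1 hA₁) A₂ (h2.1.1 hA₂)) ?_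
    intro h hh d hd
    exact ((Subgroup.mem_normalizer_iff.1 (sup_le (hnorm A₁ hA₁n) (hnorm A₂ hA₂n) hh)) d).1 hd
  have hgood : Good W (S₁ ∩ S₂ ∪ {A₁, A₂}) := by
    refine ⟨?_, isUnipotentOn_mono (sp_le ?_) hU⟩
    · rintro A (hA | hA | hA)
      · exact h1.1.1 hA.1
      · exact hA ▸ h1.1.1 hA₁
      · rw [Set.mem_singleton_iff] at hA; exact hA ▸ h2.1.1 hA₂
    · rintro A (hA | hA | hA)
      · exact (le_sp hA).trans le_sup_left
      · rw [hA]; exact le_sup_left.trans le_sup_right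
      · rw [Set.mem_singleton_iff] at hA; rw [hA]; exact le_sup_right.trans le_sup_right
  obtain ⟨S₃, hS₃, h3⟩ := exists_maxi hgood
  -- comparison of intersections
  have hcmp : ∀ S A : _, Maxi W S → A ∈ S → A ∈ W → A ∈ S₃ →
      S₁ ∩ S₂ ⊆ S → (∃ a ∈ A, (a : M →ₗ[k] M) - 1 ∉ augSpan (sp (S₁ ∩ S₂))) → S = S₃ := by
    intro S A hS hAS hAW hAS₃ hsub ⟨a, ha, ha'⟩
    by_contra hSS₃
    have hle : Module.finrank k (augSpan (sp (S ∩ S₃))) ≤ sSup N :=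
      le_csSup hbdd ⟨S, S₃, hS, h3, hSS₃, rfl⟩
    have hsub' : S₁ ∩ S₂ ⊆ S ∩ S₃ := fun B hB => ⟨hsub hB, hS₃ (Or.inl hB)⟩
    have h1' : augSpan (sp (S₁ ∩ S₂)) ≤ augSpan (sp (S ∩ S₃)) := augSpan_mono (sp_mono hsub')
    rw [← hn] at hle
    have := Submodule.eq_of_le_of_finrank_le h1' hle
    rw [this] at ha'
    exact ha' (sub_one_mem_augSpan (le_sp (⟨hAS, hAS₃⟩ : A ∈ S ∩ S₃) ha))
  have hx1 : ∃ a ∈ A₁, (a : M →ₗ[k] M) - 1 ∉ augSpan (sp (S₁ ∩ S₂)) := by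
    by_contra hno
    push Not at hno
    exact hA₁' (h2.mem (h1.1.1 hA₁) fun a ha =>
      augSpan_mono (sp_mono Set.inter_subset_right) (hno a ha))
  have hx2 : ∃ a ∈ A₂, (a : M →ₗ[k] M) - 1 ∉ augSpan (sp (S₁ ∩ S₂)) := by
    by_contra hno
    push Not at hno
    exact hA₂' (h1.mem (h2.1.1 hA₂) fun a ha =>
      augSpan_mono (sp_mono Set.inter_subset_left) (hno a ha))
  have e1 := hcmp S₁ A₁ h1 hA₁ (h1.1.1 hA₁) (hS₃ (Or.inr (Or.inl rfl))) Set.inter_subset_left hx1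
  have e2 := hcmp S₂ A₂ h2 hA₂ (h2.1.1 hA₂) (hS₃ (Or.inr (Or.inr rfl))) Set.inter_subset_right hx2
  exact h12 (e1.trans e2.symm)

end BS

end Cfsg.Agent.H740
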