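import Mathlib
import Cfsg.Agent.H740.Fixed
import Cfsg.Agent.H731.QuadT1

/-!
# Quadratic elements all of whose products with minimal ones are nilpotent centralise these
-/

set_option autoImplicit false

namespace Cfsg.Agent.H740

open Cfsg

section QPrime

variable {k : Type*} [Field k] {M : Type*} [AddCommGroup M] [Module k M]
  {G : Subgroup (LinearMap.GeneralLinearGroup k M)}

/-- `y` is quadratic in `G` and all its products with minimal elements are nilpotent. -/
def QP (G : Subgroup (LinearMap.GeneralLinearGroup k M)) (y : M →ₗ[k] M) : Prop :=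
  QIn G y ∧ ∀ s : M →ₗ[k] M, IsMin G s → IsNilpotent (s * y)

lemma exists_scalar (hk2 : ringChar k ≠ 2) (hk3 : Nat.card k ≠ 3) :
    (2 : k) ≠ 0 ∧ ∃ c : k, c ≠ 0 ∧ c ^ 2 ≠ 1 := by
  have h2 : (2 : k) ≠ 0 := Ring.two_ne_zero hk2
  refine ⟨h2, ?_⟩
  by_contra hcon
  push Not at hcon
  apply hk3
  have hall : (Set.univ : Set k) = {0, 1, -1} := by
    ext c
    simp only [Set.mem_univ, Set.mem_insert_iff, Set.mem_singleton_iff, true_iff]
    by_cases hc : c = 0
    · left; exact hc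
    · right
      have := hcon c hc
      rcases mul_eq_zero.1 (show (c - 1) * (c + 1) = 0 by ring_nf; rw [this]; ring) with h | h
      · left; exact sub_eq_zero.1 h
      · right; exact eq_neg_of_add_eq_zero_left h
  have h10 : (1 : k) ≠ -1 := fun h => h2 (by rw [← one_add_one_eq_two]; nth_rw 1 [h]; simp)
  rw [← Set.ncard_univ, hall]
  exact Set.ncard_eq_three.2 ⟨0, 1, -1, zero_ne_one, (neg_ne_zero.2 one_ne_zero).symm, h10, rfl⟩

/-- The coefficient of `x` in a polynomial identity of degree `≤ 4`. -/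
lemma coeff_one {V : Type*} [AddCommGroup V] [Module k V] (hk2 : ringChar k ≠ 2)
    (hk3 : Nat.card k ≠ 3) {a₀ a₁ a₂ a₃ a₄ : V}
    (h : ∀ x : k, a₀ + x • a₁ + x ^ 2 • a₂ + x ^ 3 • a₃ + x ^ 4 • a₄ = 0) : a₁ = 0 := by
  obtain ⟨h2, c, hc0, hc1⟩ := exists_scalar hk2 hk3
  have hodd : ∀ x : k, x ≠ 0 → a₁ + x ^ 2 • a₃ = 0 := by
    intro x hx
    have e1 := h x
    have e2 := h (-x)
    have e3 : (2 * x) • (a₁ + x ^ 2 • a₃) = 0 := by
      have : (2 * x) • (a₁ + x ^ 2 • a₃) = (a₀ + x • a₁ + x ^ 2 • a₂ + x ^ 3 • a₃ + x ^ 4 • a₄) -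
          (a₀ + (-x) • a₁ + (-x) ^ 2 • a₂ + (-x) ^ 3 • a₃ + (-x) ^ 4 • a₄) := by
        module
      rw [this, e1, e2, sub_zero]
    exact (smul_eq_zero.1 e3).resolve_left (mul_ne_zero h2 hx)
  have e1 := hodd 1 one_ne_zero
  have e2 := hodd c hc0
  rw [one_pow, one_smul] at e1
  have e3 : (c ^ 2 - 1) • a₃ = 0 := by
    have : (c ^ 2 - 1) • a₃ = (a₁ + c ^ 2 • a₃) - (a₁ + a₃) := by module
    rw [this, e1, e2, sub_zero]
  have e4 : a₃ = 0 := (smul_eq_zero.1 e3).resolve_left (sub_ne_zero.2 hc1)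
  rw [e4, add_zero] at e1
  exact e1

/-- Conjugates of `s` under the `1 + x y`. -/
lemma isMin_twist {s y : M →ₗ[k] M} (hs : IsMin G s) (hy : QIn G y) (x : k) :
    IsMin G (s + x • (y * s - s * y) - x ^ 2 • (y * s * y)) := by
  have h := hs.conj (hy.mem x)
  rw [coe_oneAdd, coe_oneAdd_inv] at h
  have e : (1 + x • y) * s * (1 - x • y) = s + x • (y * s - s * y) - x ^ 2 • (y * s * y) := by
    simp only [mul_sub, add_mul, one_mul, mul_one, smul_mul_assoc, mul_smul_comm, mul_assoc]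
    module
  rwa [e] at h

lemma QP.sys [FiniteDimensional k M] (hk2 : ringChar k ≠ 2) {s y : M →ₗ[k] M} (hy : QP G y)
    (hs : IsMin G s) : s * y * s = 0 :=
  H731.T1 hk2 hs hy.1 (hy.2 s hs)

/-- Step (1). -/
lemma QP.step1 [FiniteDimensional k M] (hk2 : ringChar k ≠ 2) (hk3 : Nat.card k ≠ 3)
    {s t y : M →ₗ[k] M} (hy : QP G y) (hs : IsMin G s) (ht : IsMin G t) :
    t * y * s * t = t * s * y * t := by
  set ν := s * t - t * s with hν
  have key : ∀ x : k, t * y * t + x • (t * y * ν + ν * y * t) +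
      x ^ 2 • (ν * y * ν - t * y * (s * t * s) - (s * t * s) * y * t) +
      x ^ 3 • (-(ν * y * (s * t * s) + (s * t * s) * y * ν)) +
      x ^ 4 • ((s * t * s) * y * (s * t * s)) = 0 := by
    intro x
    have h1 := hy.sys hk2 (isMin_twist ht hs.1 x)
    rw [← hν] at h1
    rw [← h1]
    simp only [mul_sub, sub_mul, mul_add, add_mul, smul_mul_assoc, mul_smul_comm, mul_assoc]
    module
  have h2 := coeff_one hk2 hk3 key
  have h3 : t * y * t = 0 := hy.sys hk2 ht
  have e : t * y * ν + ν * y * t = t * y * s * t - t * s * y * t - (t * y * t) * s +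
      s * (t * y * t) := by
    rw [hν]; noncomm_ring
  rw [e, h3, zero_mul, mul_zero, sub_zero, add_zero, sub_eq_zero] at h2
  exact h2

/-- Step (2): `ysy = 0`, and `1 + c(ys - sy) ∈ G`. -/
lemma QP.step2 [FiniteDimensional k M] (hk2 : ringChar k ≠ 2) (hk3 : Nat.card k ≠ 3)
    (hG : IsIrreducibleFor G) {s y : M →ₗ[k] M} (hy : QP G y) (hs : IsMin G s) :
    y * s * y = 0 ∧ QIn G (y * s - s * y) := by
  obtain ⟨h2, -⟩ := exists_scalar hk2 hk3
  have hsys : s * y * s = 0 := hy.sys hk2 hs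
  have hss : s * s = 0 := hs.sq
  have hyy : y * y = 0 := hy.1.1
  -- `w_x = s_x - s`
  have hw : ∀ x : k, QIn G (x • (y * s - s * y) - x ^ 2 • (y * s * y)) := by
    intro x
    have h1 := (isMin_twist hs hy.1 x).1
    have h3 := h1.add hs.1.neg ?_ ?_
    · have e : s + x • (y * s - s * y) - x ^ 2 • (y * s * y) + -s =
          x • (y * s - s * y) - x ^ 2 • (y * s * y) := by abel
      rwa [e] at h3
    · have e : (s + x • (y * s - s * y) - x ^ 2 • (y * s * y)) * -s =
          -(s * s) - x • (y * (s * s)) + x • (s * y * s) + x ^ 2 • (y * (s * y * s)) := by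
        simp only [mul_neg, mul_sub, sub_mul, mul_add, add_mul, smul_mul_assoc, mul_smul_comm,
          mul_assoc]
        module
      rw [e, hss, hsys]; simp
    · have e : -s * (s + x • (y * s - s * y) - x ^ 2 • (y * s * y)) =
          -(s * s) - x • (s * y * s) + x • ((s * s) * y) + x ^ 2 • ((s * y * s) * y) := by
        simp only [neg_mul, mul_sub, sub_mul, mul_add, add_mul, smul_mul_assoc, mul_smul_comm,
          mul_assoc]
        module
      rw [e, hss, hsys]; simp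
  -- all products vanish
  have p1 : (y * s * y) * (y * s * y) = 0 := by
    have : (y * s * y) * (y * s * y) = y * s * (y * y) * s * y := by noncomm_ring
    rw [this, hyy]; simp
  have p2 : (y * s - s * y) * (y * s * y) = 0 := by
    have : (y * s - s * y) * (y * s * y) = y * (s * y * s) * y - s * (y * y) * s * y := by
      noncomm_ring
    rw [this, hyy, hsys]; simp
  have p3 : (y * s * y) * (y * s - s * y) = 0 := by
    have : (y * s * y) * (y * s - s * y) = y * s * (y * y) * s - y * (s * y * s) * y := by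
      noncomm_ring
    rw [this, hyy, hsys]; simp
  have p4 : (y * s - s * y) * (y * s - s * y) = 0 := by
    have : (y * s - s * y) * (y * s - s * y) =
        y * (s * y * s) - y * (s * s) * y - s * (y * y) * s + (s * y * s) * y := by
      noncomm_ring
    rw [this, hyy, hss, hsys]; simp
  have prod : ∀ a b c d : k, (a • (y * s - s * y) - b • (y * s * y)) *
      (c • (y * s - s * y) - d • (y * s * y)) = 0 := by
    intro a b c d
    rw [sub_mul, mul_sub, mul_sub, smul_mul_smul_comm, smul_mul_smul_comm, smul_mul_smul_comm,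
      smul_mul_smul_comm, p1, p2, p3, p4]
    simp
  have hκ : QIn G (y * s * y) := by
    have h1 := (hw 1).add (hw (-1)) (prod _ _ _ _) (prod _ _ _ _)
    have h3 := h1.smul (-(1 / 2))
    have e : (-(1 / 2) : k) • ((1 : k) • (y * s - s * y) - (1 : k) ^ 2 • (y * s * y) +
        ((-1 : k) • (y * s - s * y) - (-1 : k) ^ 2 • (y * s * y))) = y * s * y := by
      have : ((1 : k) • (y * s - s * y) - (1 : k) ^ 2 • (y * s * y) +
        ((-1 : k) • (y * s - s * y) - (-1 : k) ^ 2 • (y * s * y))) = (-2 : k) • (y * s * y) := by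
        module
      rw [this, smul_smul]
      have : (-(1 / 2) : k) * (-2) = 1 := by field_simp
      rw [this, one_smul]
    rwa [e] at h3
  have hν : QIn G (y * s - s * y) := by
    have h1 := (hw 1).add (hw (-1)).neg (by rw [mul_neg, prod, neg_zero])
      (by rw [neg_mul, prod, neg_zero])
    have h3 := h1.smul (1 / 2)
    have e : ((1 / 2) : k) • ((1 : k) • (y * s - s * y) - (1 : k) ^ 2 • (y * s * y) +
        -((-1 : k) • (y * s - s * y) - (-1 : k) ^ 2 • (y * s * y))) = y * s - s * y := by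
      have : ((1 : k) • (y * s - s * y) - (1 : k) ^ 2 • (y * s * y) +
        -((-1 : k) • (y * s - s * y) - (-1 : k) ^ 2 • (y * s * y))) =
          (2 : k) • (y * s - s * y) := by
        module
      rw [this, smul_smul]
      have : ((1 / 2) : k) * 2 = 1 := by field_simp
      rw [this, one_smul]
    rwa [e] at h3
  refine ⟨?_, hν⟩
  by_contra hne
  have hle : Module.finrank k (LinearMap.range (y * s * y)) ≤
      Module.finrank k (LinearMap.range s) := by
    have e1 : LinearMap.range (y * s * y) ≤ (LinearMap.range s).map y := by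
      rintro _ ⟨m, rfl⟩
      exact ⟨s (y m), ⟨y m, rfl⟩, rfl⟩
    exact (Submodule.finrank_mono e1).trans (Submodule.finrank_map_le y _)
  have hmin : IsMin G (y * s * y) := hs.of_finrank_le hκ hne hle
  have ht : ∀ t : M →ₗ[k] M, IsMin G t → t * (y * s * y) * t = 0 := by
    intro t ht
    have e0 := hy.step1 hk2 hk3 hs ht
    have e1 := hy.step1 hk2 hk3 (isMin_twist hs hy.1 1) ht
    rw [one_smul, one_pow, one_smul] at e1
    have e2 : t * y * (s + (y * s - s * y) - y * s * y) * t =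
        t * y * s * t + t * (y * y) * s * t - t * (y * s * y) * t - t * (y * y) * s * y * t := by
      noncomm_ring
    have e3 : t * (s + (y * s - s * y) - y * s * y) * y * t =
        t * s * y * t + t * (y * s * y) * t - t * s * (y * y) * t - t * y * s * (y * y) * t := by
      noncomm_ring
    rw [e2, e3, hyy, e0] at e1
    simp only [mul_zero, zero_mul, add_zero, sub_zero] at e1
    have e4 : (2 : k) • (t * (y * s * y) * t) = 0 := by
      have : (2 : k) • (t * (y * s * y) * t) = (t * s * y * t + t * (y * s * y) * t) -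
        (t * s * y * t - t * (y * s * y) * t) := by module
      rw [this, e1, sub_self]
    exact (smul_eq_zero.1 e4).resolve_left h2
  refine hne (eq_zero_of_family hG {κ | ∃ g ∈ G, κ = (g : M →ₗ[k] M) * (y * s * y) *
    ((g⁻¹ : LinearMap.GeneralLinearGroup k M) : M →ₗ[k] M)} ?_ ?_ ?_ _ ⟨1, G.one_mem, by simp⟩)
  · rintro _ ⟨g, hg, rfl⟩
    exact hκ.conj hg
  · rintro _ ⟨g, hg, rfl⟩ h hh
    refine ⟨h * g, G.mul_mem hh hg, ?_⟩
    rw [mul_inv_rev, Units.val_mul, Units.val_mul]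
    simp only [mul_assoc]
  · rintro _ ⟨g, hg, rfl⟩ _ ⟨h, hh, rfl⟩
    have e1 := ht _ ((hmin.conj hg).conj (G.inv_mem hh))
    rw [inv_inv] at e1
    set ν := (g : M →ₗ[k] M) * (y * s * y) *
      ((g⁻¹ : LinearMap.GeneralLinearGroup k M) : M →ₗ[k] M) with hνd
    have e2 : ν * ((h : M →ₗ[k] M) * (y * s * y) *
        ((h⁻¹ : LinearMap.GeneralLinearGroup k M) : M →ₗ[k] M)) * ν =
        (h : M →ₗ[k] M) * ((((h⁻¹ : LinearMap.GeneralLinearGroup k M) : M →ₗ[k] M) * ν *
          (h : M →ₗ[k] M)) * (y * s * y) *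
          (((h⁻¹ : LinearMap.GeneralLinearGroup k M) : M →ₗ[k] M) * ν * (h : M →ₗ[k] M))) *
          ((h⁻¹ : LinearMap.GeneralLinearGroup k M) : M →ₗ[k] M) := by
      have e3 : (h : M →ₗ[k] M) * ((((h⁻¹ : LinearMap.GeneralLinearGroup k M) : M →ₗ[k] M) * ν *
          (h : M →ₗ[k] M)) * (y * s * y) *
          (((h⁻¹ : LinearMap.GeneralLinearGroup k M) : M →ₗ[k] M) * ν * (h : M →ₗ[k] M))) *
          ((h⁻¹ : LinearMap.GeneralLinearGroup k M) : M →ₗ[k] M) =
          ((h : M →ₗ[k] M) * ((h⁻¹ : LinearMap.GeneralLinearGroup k M) : M →ₗ[k] M)) * ν *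
          (h : M →ₗ[k] M) * (y * s * y) *
          ((h⁻¹ : LinearMap.GeneralLinearGroup k M) : M →ₗ[k] M) * ν *
          ((h : M →ₗ[k] M) * ((h⁻¹ : LinearMap.GeneralLinearGroup k M) : M →ₗ[k] M)) := by
        simp only [mul_assoc]
      rw [e3, Units.mul_inv, one_mul, mul_one]
      simp only [mul_assoc]
    rw [e2, e1]; simp

lemma QP.conj {y : M →ₗ[k] M} (hy : QP G y) {g : LinearMap.GeneralLinearGroup k M} (hg : g ∈ G) :
    QP G ((g : M →ₗ[k] M) * y * ((g⁻¹ : LinearMap.GeneralLinearGroup k M) : M →ₗ[k] M)) := by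
  refine ⟨hy.1.conj hg, fun s hs => ?_⟩
  obtain ⟨n, hn⟩ := hy.2 _ (hs.conj (G.inv_mem hg))
  rw [inv_inv] at hn
  refine ⟨n, ?_⟩
  have e : s * ((g : M →ₗ[k] M) * y * ((g⁻¹ : LinearMap.GeneralLinearGroup k M) : M →ₗ[k] M)) =
      (g : M →ₗ[k] M) * ((((g⁻¹ : LinearMap.GeneralLinearGroup k M) : M →ₗ[k] M) * s *
        (g : M →ₗ[k] M)) * y) * ((g⁻¹ : LinearMap.GeneralLinearGroup k M) : M →ₗ[k] M) := by
    have : (g : M →ₗ[k] M) * ((((g⁻¹ : LinearMap.GeneralLinearGroup k M) : M →ₗ[k] M) * s *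
        (g : M →ₗ[k] M)) * y) * ((g⁻¹ : LinearMap.GeneralLinearGroup k M) : M →ₗ[k] M) =
        ((g : M →ₗ[k] M) * ((g⁻¹ : LinearMap.GeneralLinearGroup k M) : M →ₗ[k] M)) * s *
        (g : M →ₗ[k] M) * y * ((g⁻¹ : LinearMap.GeneralLinearGroup k M) : M →ₗ[k] M) := by
      simp only [mul_assoc]
    rw [this, Units.mul_inv, one_mul]
    simp only [mul_assoc]
  rw [e, Units.conj_pow, hn]
  simp

/-- Step (3): `ys - sy` is again in `QP`. -/
lemma QP.step3 [FiniteDimensional k M] (hk2 : ringChar k ≠ 2) (hk3 : Nat.card k ≠ 3)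
    (hG : IsIrreducibleFor G) {s y : M →ₗ[k] M} (hy : QP G y) (hs : IsMin G s) :
    QP G (y * s - s * y) := by
  refine ⟨(hy.step2 hk2 hk3 hG hs).2, fun t ht => ⟨2, ?_⟩⟩
  have h1 := hy.step1 hk2 hk3 hs ht
  have e : (t * (y * s - s * y)) ^ 2 = (t * y * s * t - t * s * y * t) * (y * s - s * y) := by
    rw [pow_two]; noncomm_ring
  rw [e, h1, sub_self, zero_mul]

/-- **`QP` elements commute with all minimal elements.** -/
theorem QP.commute [FiniteDimensional k M] (hk2 : ringChar k ≠ 2) (hk3 : Nat.card k ≠ 3)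
    (hG : IsIrreducibleFor G) {s y : M →ₗ[k] M} (hy : QP G y) (hs : IsMin G s) :
    s * y = y * s := by
  have key := eq_zero_of_family hG
    {ν | ∃ y s : M →ₗ[k] M, QP G y ∧ IsMin G s ∧ ν = y * s - s * y} ?_ ?_ ?_ _
    ⟨y, s, hy, hs, rfl⟩
  · exact (sub_eq_zero.1 key).symm
  · rintro _ ⟨y, s, hy, hs, rfl⟩
    exact (hy.step2 hk2 hk3 hG hs).2
  · rintro _ ⟨y, s, hy, hs, rfl⟩ g hg
    refine ⟨_, _, hy.conj hg, hs.conj hg, ?_⟩
    have e1 : ∀ a b : M →ₗ[k] M, (g : M →ₗ[k] M) * a *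
        ((g⁻¹ : LinearMap.GeneralLinearGroup k M) : M →ₗ[k] M) * ((g : M →ₗ[k] M) * b *
        ((g⁻¹ : LinearMap.GeneralLinearGroup k M) : M →ₗ[k] M)) = (g : M →ₗ[k] M) * (a * b) *
        ((g⁻¹ : LinearMap.GeneralLinearGroup k M) : M →ₗ[k] M) := by
      intro a b
      have : (g : M →ₗ[k] M) * a *
        ((g⁻¹ : LinearMap.GeneralLinearGroup k M) : M →ₗ[k] M) * ((g : M →ₗ[k] M) * b *
        ((g⁻¹ : LinearMap.GeneralLinearGroup k M) : M →ₗ[k] M)) = (g : M →ₗ[k] M) * a *
        (((g⁻¹ : LinearMap.GeneralLinearGroup k M) : M →ₗ[k] M) * (g : M →ₗ[k] M)) * b *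
        ((g⁻¹ : LinearMap.GeneralLinearGroup k M) : M →ₗ[k] M) := by simp only [mul_assoc]
      rw [this, Units.inv_mul, mul_one]
      simp only [mul_assoc]
    rw [e1, e1, mul_sub, sub_mul]
  · rintro _ ⟨y, s, hy, hs, rfl⟩ _ ⟨y', s', hy', hs', rfl⟩
    have hν := hy.step3 hk2 hk3 hG hs
    have h0 := (hy'.step2 hk2 hk3 hG hs').1
    have h1 := (hν.step2 hk2 hk3 hG hs').1
    have h2 := (hν.step2 hk2 hk3 hG (isMin_twist hs' hy'.1 1)).1
    rw [h0, smul_zero, sub_zero, one_smul, mul_add, add_mul, h1, zero_add] at h2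
    exact h2

/-- The form used later. -/
theorem commute_of_forall_nilpotent [FiniteDimensional k M] (hk2 : ringChar k ≠ 2)
    (hk3 : Nat.card k ≠ 3) (hG : IsIrreducibleFor G) {y : M →ₗ[k] M} (hy : QIn G y)
    (h : ∀ s : M →ₗ[k] M, IsMin G s → IsNilpotent (s * y)) :
    ∀ s : M →ₗ[k] M, IsMin G s → s * y = y * s :=
  fun _ hs => QP.commute hk2 hk3 hG ⟨hy, h⟩ hs

end QPrime

end Cfsg.Agent.H740
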