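import Mathlib
import Cfsg.Agent.H740.QPrime
import Cfsg.Agent.H731.QuadT2

/-!
# Splitting quadratic elements into minimal ones; `G = G₀ C_G(G₀)`
-/

set_option autoImplicit false

namespace Cfsg.Agent.H740

open Cfsg

section Split

variable {k : Type*} [Field k] {M : Type*} [AddCommGroup M] [Module k M] [FiniteDimensional k M]
  {G : Subgroup (LinearMap.GeneralLinearGroup k M)}

/-- The rank drops when a minimal summand is split off. -/
lemma finrank_lt_of_split {r r₁ r₀ s t : M →ₗ[k] M} (hr : r = r₁ + r₀) (h10 : r₁ * r₀ = 0)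
    (h01 : r₀ * r₁ = 0) (hs0 : s * r₀ = 0) (h0s : r₀ * s = 0) (hr1 : r₁ ≠ 0)
    (hk : LinearMap.ker t = LinearMap.ker r₁) (hran : LinearMap.range t = LinearMap.range r₁)
    (htst : t * s * t = t) (htt : t * t = 0) :
    Module.finrank k (LinearMap.range r₀) < Module.finrank k (LinearMap.range r) := by
  have ht0 : t * r₀ = 0 := by
    ext m
    have : r₀ m ∈ LinearMap.ker r₁ := by
      rw [LinearMap.mem_ker, ← Module.End.mul_apply, h10, LinearMap.zero_apply]
    rw [← hk, LinearMap.mem_ker] at this
    rw [Module.End.mul_apply, this, LinearMap.zero_apply]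
  have h0t : r₀ * t = 0 := by
    ext m
    have : t m ∈ LinearMap.range r₁ := by rw [← hran]; exact ⟨m, rfl⟩
    obtain ⟨m', hm'⟩ := this
    rw [Module.End.mul_apply, ← hm', ← Module.End.mul_apply, h01, LinearMap.zero_apply,
      LinearMap.zero_apply]
  -- `r₁ (1 - ts) = 0`
  have h1 : ∀ m, r₁ m = r₁ (t (s m)) + r₁ (s (t m)) := by
    intro m
    have hmem : m - t (s m) - s (t m) ∈ LinearMap.ker t := by
      rw [LinearMap.mem_ker, map_sub, map_sub]
      have e1 : t (t (s m)) = 0 := by
        rw [← Module.End.mul_apply, htt, LinearMap.zero_apply]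
      have e2 : t (s (t m)) = t m := by
        have := LinearMap.congr_fun htst m
        simpa only [Module.End.mul_apply] using this
      rw [e1, e2]; simp
    rw [hk, LinearMap.mem_ker, map_sub, map_sub, sub_sub, sub_eq_zero] at hmem
    exact hmem
  have hr1' : ∀ m, r₁ m = r (s (t m)) := by
    intro m
    have e1 : r₁ (t (s m)) = 0 := by
      have : t (s m) ∈ LinearMap.ker r₁ := by
        rw [← hk, LinearMap.mem_ker, ← Module.End.mul_apply, htt, LinearMap.zero_apply]
      exact this
    rw [h1 m, e1, zero_add, hr, LinearMap.add_apply]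
    have e2 : r₀ (s (t m)) = 0 := by
      rw [← Module.End.mul_apply, h0s, LinearMap.zero_apply]
    rw [e2, add_zero]
  have hr0' : ∀ m, r₀ m = r (m - s (t m)) := by
    intro m
    rw [map_sub, ← hr1', hr, LinearMap.add_apply]; abel
  have hle0 : LinearMap.range r₀ ≤ LinearMap.range r := by
    rintro _ ⟨m, rfl⟩
    exact ⟨_, (hr0' m).symm⟩
  have hle1 : LinearMap.range r₁ ≤ LinearMap.range r := by
    rintro _ ⟨m, rfl⟩
    exact ⟨_, (hr1' m).symm⟩
  have hdisj : LinearMap.range r₁ ⊓ LinearMap.range r₀ = ⊥ := by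
    rw [eq_bot_iff]
    rintro x ⟨hx1, ⟨y, hy⟩⟩
    rw [← hran] at hx1
    obtain ⟨z, hz⟩ := hx1
    have e1 : s x = 0 := by
      rw [← hy, ← Module.End.mul_apply, hs0, LinearMap.zero_apply]
    have e2 : x = t (s x) := by
      rw [← hz]
      have := LinearMap.congr_fun htst z
      simpa only [Module.End.mul_apply] using this.symm
    rw [Submodule.mem_bot, e2, e1, map_zero]
  have h2 := Submodule.finrank_sup_add_finrank_inf_eq (LinearMap.range r₁) (LinearMap.range r₀)
  rw [hdisj, finrank_bot, add_zero] at h2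
  have h3 := Submodule.finrank_mono (sup_le hle1 hle0)
  have h4 : 0 < Module.finrank k (LinearMap.range r₁) := by
    rw [Module.finrank_pos_iff_exists_ne_zero]
    by_contra hno
    push Not at hno
    apply hr1
    ext m
    have := hno ⟨r₁ m, ⟨m, rfl⟩⟩
    simpa using congrArg Subtype.val this
  omega

/-- An element commuting with all minimal elements centralises all root subgroups. -/
lemma mem_centralizer_of_commute {x : M →ₗ[k] M} (hx : QIn G x)
    (h : ∀ s : M →ₗ[k] M, IsMin G s → s * x = x * s) :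
    oneAdd x hx.1 ∈ G ⊓ Subgroup.centralizer
      ((⨆ A ∈ quadraticRootSubgroups G, A : Subgroup (LinearMap.GeneralLinearGroup k M)) :
        Set (LinearMap.GeneralLinearGroup k M)) := by
  refine Subgroup.mem_inf.2 ⟨hx.mem_one, Subgroup.mem_centralizer_iff.2 ?_⟩
  have hle : (⨆ A ∈ quadraticRootSubgroups G, A) ≤
      Subgroup.centralizer {oneAdd x hx.1} := by
    refine iSup₂_le ?_
    rintro _ ⟨σ, hσ, rfl⟩
    intro τ hτ
    rw [Subgroup.mem_centralizer_singleton_iff]
    by_cases h1 : τ = 1
    · rw [h1]; simp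
    · have hmin := mem_minimalQuadraticElements_iff.1 (mem_minimal_of_mem hσ hτ h1)
      have h2 := h _ hmin
      apply Units.ext
      rw [Units.val_mul, Units.val_mul, coe_oneAdd, mul_add, mul_one, add_mul, one_mul]
      rw [sub_mul, mul_sub, one_mul, mul_one, sub_left_inj] at h2
      rw [h2]
  intro τ hτ
  have := hle hτ
  rw [Subgroup.mem_centralizer_singleton_iff] at this
  exact this

/-- **Each quadratic element lies in `G₀ C_G(G₀)`.** -/
theorem mem_sup_centralizer (hk2 : ringChar k ≠ 2) (hk3 : Nat.card k ≠ 3)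
    (hG : IsIrreducibleFor G) : ∀ (n : ℕ) (x : M →ₗ[k] M) (hx : QIn G x),
      Module.finrank k (LinearMap.range x) = n →
      oneAdd x hx.1 ∈ (⨆ A ∈ quadraticRootSubgroups G, A) ⊔ (G ⊓ Subgroup.centralizer
        ((⨆ A ∈ quadraticRootSubgroups G, A : Subgroup (LinearMap.GeneralLinearGroup k M)) :
          Set (LinearMap.GeneralLinearGroup k M))) := by
  intro n
  induction n using Nat.strong_induction_on with
  | _ n ih =>
    intro x hx hn
    by_cases hnil : ∀ s : M →ₗ[k] M, IsMin G s → IsNilpotent (s * x)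
    · exact Subgroup.mem_sup_right (mem_centralizer_of_commute hx
        (commute_of_forall_nilpotent hk2 hk3 hG hx hnil))
    · push Not at hnil
      obtain ⟨s, hs, hsx⟩ := hnil
      obtain ⟨r₁, r₀, t, hr, h10, h01, hs0, h0s, hr1, hr0, ht, hk, hran, hsts, htst⟩ :=
        H731.T2 hk2 hk3 hs hx hsx
      have hlt := finrank_lt_of_split hr h10 h01 hs0 h0s hr1.ne_zero hk hran htst ht.sq
      rw [hn] at hlt
      have hprod : oneAdd x hx.1 = oneAdd r₁ hr1.1.1 * oneAdd r₀ hr0.1 := by
        apply Units.ext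
        rw [Units.val_mul, coe_oneAdd, coe_oneAdd, coe_oneAdd, mul_add, mul_one, add_mul, one_mul,
          h10, hr]
        abel
      rw [hprod]
      refine Subgroup.mul_mem _ (Subgroup.mem_sup_left ?_) (ih _ hlt r₀ hr0 rfl)
      exact (le_iSup₂_of_le (f := fun A (_ : A ∈ quadraticRootSubgroups G) => A)
        (sameActionSubgroup G (oneAdd r₁ hr1.1.1)) ⟨_, oneAdd_mem_minimal hr1, rfl⟩ le_rfl)
        (self_mem_sameActionSubgroup (oneAdd_mem_minimal hr1))

end Split

end Cfsg.Agent.H740
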