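import Mathlib
import Cfsg.Agent.H740.Quad
import Cfsg.Agent.H731.RankOne
import Cfsg.Agent.H731.QuadT2
import Cfsg.Agent.H742.SubOf
import Cfsg.Agent.H740.Split
import Cfsg.Agent.S5069
import Cfsg.Agent.S5074

/-!
# Quadratic elements lie in a component or centralise all of them
-/

set_option autoImplicit false

universe u

namespace Cfsg.Agent.H740

open Cfsg

section Dich

variable {k : Type u} [Field k] {M : Type u} [AddCommGroup M] [Module k M] [FiniteDimensional k M]
  {G : Subgroup (LinearMap.GeneralLinearGroup k M)}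

/-- Data of the decomposition of `Σ(G)` into parts (from S5069). -/
structure Parts (G : Subgroup (LinearMap.GeneralLinearGroup k M)) (r : ℕ)
    (part : Fin r → Set (Subgroup (LinearMap.GeneralLinearGroup k M))) : Prop where
  union : (⋃ i, part i) = quadraticRootSubgroups G
  comm : ∀ i j, i ≠ j → ⁅(⨆ A ∈ part i, A), (⨆ A ∈ part j, A)⁆ = ⊥
  quasi : ∀ i, IsQuasisimple ↥(⨆ A ∈ part i, A)
  nonempty : ∀ i, (part i).Nonempty
  conj : ∀ i, ∀ A ∈ part i, ∀ B ∈ part i, ∃ g ∈ (⨆ A ∈ part i, A), B = conjBy A g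
  normal : ∀ i, ∀ g ∈ G, conjBy (⨆ A ∈ part i, A) g = ⨆ A ∈ part i, A

omit [FiniteDimensional k M] in
lemma Parts.le {r : ℕ} {part : Fin r → Set (Subgroup (LinearMap.GeneralLinearGroup k M))}
    (_ : Parts G r part) {i : Fin r} {A : Subgroup (LinearMap.GeneralLinearGroup k M)}
    (hA : A ∈ part i) : A ≤ ⨆ A ∈ part i, A := le_iSup₂_of_le A hA le_rfl

omit [FiniteDimensional k M] in
lemma Parts.mem {r : ℕ} {part : Fin r → Set (Subgroup (LinearMap.GeneralLinearGroup k M))}
    (hP : Parts G r part) {i : Fin r} {A : Subgroup (LinearMap.GeneralLinearGroup k M)}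
    (hA : A ∈ part i) : A ∈ quadraticRootSubgroups G := by
  rw [← hP.union]; exact Set.mem_iUnion.2 ⟨i, hA⟩

omit [FiniteDimensional k M] in
lemma Parts.exists {r : ℕ} {part : Fin r → Set (Subgroup (LinearMap.GeneralLinearGroup k M))}
    (hP : Parts G r part) {A : Subgroup (LinearMap.GeneralLinearGroup k M)}
    (hA : A ∈ quadraticRootSubgroups G) : ∃ i, A ∈ part i := by
  rw [← hP.union] at hA; exact Set.mem_iUnion.1 hA

lemma Parts.ne_bot {r : ℕ} {part : Fin r → Set (Subgroup (LinearMap.GeneralLinearGroup k M))}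
    (hP : Parts G r part) (i : Fin r) : (⨆ A ∈ part i, A) ≠ ⊥ := by
  intro h
  obtain ⟨A, hA⟩ := hP.nonempty i
  obtain ⟨σ, hσ, rfl⟩ := hP.mem hA
  have h1 : σ ∈ (⨆ A ∈ part i, A) := hP.le hA (self_mem_sameActionSubgroup hσ)
  rw [h, Subgroup.mem_bot] at h1
  have h2 := (mem_minimalQuadraticElements_iff.1 hσ).ne_zero
  rw [h1] at h2
  exact h2 (by simp)

/-- The parts exist. -/
theorem exists_parts (hk2 : ringChar k ≠ 2) (hk3 : Nat.card k ≠ 3) (hG : IsQuadraticPair G) :
    ∃ (r : ℕ) (part : Fin r → Set (Subgroup (LinearMap.GeneralLinearGroup k M))),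
      Parts G r part := by
  obtain ⟨r, part, h1, h2, h3, h4, h5⟩ := S5069.result hk2 hk3 hG
  have hG0 := S5074.result hk2 hk3 hG
  refine ⟨r, part, h1, h4, fun i => (h5 i).1, h3, ?_, ?_⟩
  · intro i A hA B hB
    obtain ⟨g, hg⟩ := (h5 i).2.1.2.2 _ ⟨A, hA, rfl⟩ _ ⟨B, hB, rfl⟩
    refine ⟨(g : LinearMap.GeneralLinearGroup k M), g.2, ?_⟩
    have hAle : A ≤ ⨆ A ∈ part i, A := le_iSup₂_of_le A hA le_rfl
    have hBle : B ≤ ⨆ A ∈ part i, A := le_iSup₂_of_le B hB le_rfl
    simp only at hg
    rw [H742.conjBy_subgroupOf] at hg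
    refine (H742.subgroupOf_inj_iff hBle ?_).1 hg
    have hc : conjBy (⨆ A ∈ part i, A) (g : LinearMap.GeneralLinearGroup k M) =
      ⨆ A ∈ part i, A := H731.conjBy_of_mem g.2
    exact ((H731.conjBy_le_conjBy).2 hAle).trans hc.le
  · intro i g hg
    have key : G ≤ Subgroup.normalizer
        ((⨆ A ∈ part i, A : Subgroup (LinearMap.GeneralLinearGroup k M)) : Set _) := by
      rw [← hG0]
      refine sup_le (iSup₂_le ?_) ?_
      · intro A hA
        rw [← h1] at hA
        obtain ⟨j, hj⟩ := Set.mem_iUnion.1 hA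
        have hAj : A ≤ ⨆ A ∈ part j, A := le_iSup₂_of_le A hj le_rfl
        by_cases hij : j = i
        · subst hij
          exact hAj.trans Subgroup.le_normalizer
        · refine H731.le_normalizer_of_conjBy fun a ha => ?_
          refine H731.conjBy_of_commute fun x hx => ?_
          exact (H731.commutator_eq_bot_iff_forall.1 (h4 j i hij)) a (hAj ha) x hx
      · intro c hc
        have hc2 := Subgroup.mem_centralizer_iff.1 hc.2
        rw [H731.mem_normalizer_iff_conjBy]
        refine H731.conjBy_of_commute fun x hx => ?_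
        refine (hc2 x ?_).symm
        refine (iSup₂_le ?_ : (⨆ A ∈ part i, A) ≤ ⨆ A ∈ quadraticRootSubgroups G, A) hx
        intro A hA
        refine le_iSup₂_of_le A ?_ le_rfl
        rw [← h1]; exact Set.mem_iUnion.2 ⟨i, hA⟩
    exact H731.mem_normalizer_iff_conjBy.1 (key hg)

/-- An element commuting with all minimal elements commutes with all `G_i`. -/
lemma commute_of_forall {y : M →ₗ[k] M} (hy : ∀ s : M →ₗ[k] M, IsMin G s → s * y = y * s)
    {r : ℕ} {part : Fin r → Set (Subgroup (LinearMap.GeneralLinearGroup k M))}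
    (hP : Parts G r part) (i : Fin r) : ∀ g ∈ (⨆ A ∈ part i, A),
      (g : M →ₗ[k] M) * y = y * (g : M →ₗ[k] M) := by
  intro g hg
  rw [iSup_subtype'] at hg
  refine Subgroup.iSup_induction _ (C := fun g : LinearMap.GeneralLinearGroup k M =>
    (g : M →ₗ[k] M) * y = y * (g : M →ₗ[k] M)) hg ?_ ?_ ?_
  · rintro ⟨A, hA⟩ a ha
    obtain ⟨σ, hσ, rfl⟩ := hP.mem hA
    by_cases h1 : a = 1
    · rw [h1]; simp
    · have := hy _ (mem_minimalQuadraticElements_iff.1 (mem_minimal_of_mem hσ ha h1))
      rw [sub_mul, mul_sub, one_mul, mul_one, sub_left_inj] at this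
      exact this
  · simp
  · intro a b ha hb
    rw [Units.val_mul, mul_assoc, hb, ← mul_assoc, ha, mul_assoc]

/-- If `r₁ ∈ G_i` is minimal, `r₁ r₀ = 0` and `r₀` commutes with `G_i`, then `r₀ = 0`. -/
lemma eq_zero_of_commute (hG : IsIrreducibleFor G)
    {r : ℕ} {part : Fin r → Set (Subgroup (LinearMap.GeneralLinearGroup k M))}
    (hP : Parts G r part) {i : Fin r} {r₁ r₀ : M →ₗ[k] M} (h1 : IsMin G r₁)
    (hi : sameActionSubgroup G (oneAdd r₁ h1.1.1) ∈ part i) (h10 : r₁ * r₀ = 0)
    (hc : ∀ g ∈ (⨆ A ∈ part i, A), (g : M →ₗ[k] M) * r₀ = r₀ * (g : M →ₗ[k] M)) : r₀ = 0 := by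
  ext m
  rw [LinearMap.zero_apply]
  refine eq_zero_of_fixed hG (hP.ne_bot i) ?_ ?_
  · intro g hg h hh
    have := hP.normal i g hg
    rw [← this]
    exact H731.conj_mem_conjBy hh g
  · have hfix : ∀ b : LinearMap.GeneralLinearGroup k M, ∀ m : M,
        b ∈ (⨆ A ∈ part i, A) → (b : M →ₗ[k] M) (r₀ m) = r₀ m := by
      intro b m hb
      rw [iSup_subtype'] at hb
      refine Subgroup.iSup_induction _ (C := fun b : LinearMap.GeneralLinearGroup k M =>
        (b : M →ₗ[k] M) (r₀ m) = r₀ m) hb ?_ ?_ ?_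
      · rintro ⟨B, hB⟩ b hb
        obtain ⟨g, hg, hBg⟩ := hP.conj i _ hi B hB
        have hb' : b ∈ B := hb
        rw [hBg, H731.mem_conjBy, mem_sameActionSubgroup_iff (oneAdd_mem_minimal h1)] at hb'
        have hker := hb'.2.1
        rw [coe_oneAdd, add_sub_cancel_left] at hker
        -- `b (r₀ m) = g ((g⁻¹ b g) (r₀ (g⁻¹ m)))`
        have hmem : r₀ (((g⁻¹ : LinearMap.GeneralLinearGroup k M) : M →ₗ[k] M) m) ∈
            LinearMap.ker r₁ := by
          rw [LinearMap.mem_ker, ← Module.End.mul_apply, h10, LinearMap.zero_apply]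
        have h3 := hker hmem
        rw [LinearMap.mem_ker, LinearMap.sub_apply, Module.End.one_apply, sub_eq_zero] at h3
        have hginv := hc g⁻¹ (Subgroup.inv_mem _ hg)
        have e1 : r₀ (((g⁻¹ : LinearMap.GeneralLinearGroup k M) : M →ₗ[k] M) m) =
            ((g⁻¹ : LinearMap.GeneralLinearGroup k M) : M →ₗ[k] M) (r₀ m) := by
          rw [← Module.End.mul_apply, ← hginv, Module.End.mul_apply]
        rw [e1] at h3
        have h4 := congrArg (fun x => (g : M →ₗ[k] M) x) h3
        rw [self_apply_inv] at h4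
        rw [Units.val_mul, Units.val_mul, Module.End.mul_apply, Module.End.mul_apply,
          self_apply_inv, self_apply_inv] at h4
        exact h4
      · rfl
      · intro a b ha hb
        rw [Units.val_mul, Module.End.mul_apply, hb, ha]
    intro h hh
    exact hfix h m hh

/-- **Every quadratic element lies in one of the `G_i` or commutes with all of them.** -/
theorem dichotomy (hk2 : ringChar k ≠ 2) (hk3 : Nat.card k ≠ 3) (hG : IsQuadraticPair G)
    {r : ℕ} {part : Fin r → Set (Subgroup (LinearMap.GeneralLinearGroup k M))}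
    (hP : Parts G r part) : ∀ (n : ℕ) (x : M →ₗ[k] M) (hx : QIn G x),
      Module.finrank k (LinearMap.range x) = n →
      (∃ i, oneAdd x hx.1 ∈ (⨆ A ∈ part i, A)) ∨
        (∀ s : M →ₗ[k] M, IsMin G s → s * x = x * s) := by
  intro n
  induction n using Nat.strong_induction_on with
  | _ n ih =>
    intro x hx hn
    by_cases hnil : ∀ s : M →ₗ[k] M, IsMin G s → IsNilpotent (s * x)
    · right
      exact commute_of_forall_nilpotent hk2 hk3 hG.1 hx hnil
    · push Not at hnil
      obtain ⟨s, hs, hsx⟩ := hnil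
      obtain ⟨r₁, r₀, t, hr, h10, h01, hs0, h0s, hr1, hr0, ht, hk, hran, hsts, htst⟩ :=
        H731.T2 hk2 hk3 hs hx hsx
      left
      obtain ⟨i, hi⟩ := hP.exists (⟨_, oneAdd_mem_minimal hr1, rfl⟩ :
        sameActionSubgroup G (oneAdd r₁ hr1.1.1) ∈ quadraticRootSubgroups G)
      have hmem1 : oneAdd r₁ hr1.1.1 ∈ (⨆ A ∈ part i, A) :=
        hP.le hi (self_mem_sameActionSubgroup (oneAdd_mem_minimal hr1))
      have hlt := finrank_lt_of_split hr h10 h01 hs0 h0s hr1.ne_zero hk hran htst ht.sq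
      rw [hn] at hlt
      have hprod : oneAdd x hx.1 = oneAdd r₁ hr1.1.1 * oneAdd r₀ hr0.1 := by
        apply Units.ext
        rw [Units.val_mul, coe_oneAdd, coe_oneAdd, coe_oneAdd, mul_add, mul_one, add_mul, one_mul,
          h10, hr]
        abel
      have hzero : r₀ = 0 → oneAdd x hx.1 = oneAdd r₁ hr1.1.1 := by
        intro h
        apply Units.ext
        rw [coe_oneAdd, coe_oneAdd, hr, h, add_zero]
      refine ⟨i, ?_⟩
      rcases ih _ hlt r₀ hr0 rfl with ⟨l, hl⟩ | hcomm
      · by_cases hli : l = i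
        · subst hli
          rw [hprod]
          exact Subgroup.mul_mem _ hmem1 hl
        · have h0 : r₀ = 0 := by
            refine eq_zero_of_commute hG.1 hP hr1 hi h10 fun g hg => ?_
            have h1 := (H731.commutator_eq_bot_iff_forall.1 (hP.comm l i hli)) _ hl g hg
            have h2 := congrArg Units.val h1
            rw [Units.val_mul, Units.val_mul, coe_oneAdd, add_mul, mul_add, one_mul, mul_one,
              add_right_inj] at h2
            exact h2.symm
          rw [hzero h0]; exact hmem1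
      · have h0 : r₀ = 0 :=
          eq_zero_of_commute hG.1 hP hr1 hi h10 (commute_of_forall hcomm hP i)
        rw [hzero h0]; exact hmem1

end Dich

end Cfsg.Agent.H740
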