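import Mathlib
import Cfsg.Agent.H740.Quad

/-!
# Restriction of a linear group to an invariant subspace
-/

set_option autoImplicit false

namespace Cfsg.Agent.H740

open Cfsg

section Restrict

variable {k : Type*} [Field k] {M : Type*} [AddCommGroup M] [Module k M]

/-- The stabiliser of a subspace. -/
def stab (S : Submodule k M) : Subgroup (LinearMap.GeneralLinearGroup k M) where
  carrier := {g | (∀ w ∈ S, (g : M →ₗ[k] M) w ∈ S) ∧
    ∀ w ∈ S, ((g⁻¹ : LinearMap.GeneralLinearGroup k M) : M →ₗ[k] M) w ∈ S}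
  one_mem' := ⟨fun w hw => hw, fun w hw => by simpa using hw⟩
  mul_mem' := by
    rintro a b ⟨ha, ha'⟩ ⟨hb, hb'⟩
    refine ⟨fun w hw => ?_, fun w hw => ?_⟩
    · rw [Units.val_mul, Module.End.mul_apply]; exact ha _ (hb _ hw)
    · rw [mul_inv_rev, Units.val_mul, Module.End.mul_apply]; exact hb' _ (ha' _ hw)
  inv_mem' := by
    rintro a ⟨ha, ha'⟩
    exact ⟨ha', by rw [inv_inv]; exact ha⟩

lemma mem_stab {S : Submodule k M} {g : LinearMap.GeneralLinearGroup k M} :
    g ∈ stab S ↔ (∀ w ∈ S, (g : M →ₗ[k] M) w ∈ S) ∧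
    ∀ w ∈ S, ((g⁻¹ : LinearMap.GeneralLinearGroup k M) : M →ₗ[k] M) w ∈ S := Iff.rfl

lemma le_stab {S : Submodule k M} {C : Subgroup (LinearMap.GeneralLinearGroup k M)}
    (h : ∀ g ∈ C, ∀ w ∈ S, (g : M →ₗ[k] M) w ∈ S) : C ≤ stab S :=
  fun g hg => ⟨h g hg, h g⁻¹ (C.inv_mem hg)⟩

variable {C : Subgroup (LinearMap.GeneralLinearGroup k M)} {W : Submodule k M}

/-- The restriction hom to endomorphisms. -/
def resEnd (hW : C ≤ stab W) : ↥C →* (↥W →ₗ[k] ↥W) where
  toFun c := ((c : LinearMap.GeneralLinearGroup k M) : M →ₗ[k] M).restrict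
    (fun w hw => (hW c.2).1 w hw)
  map_one' := by ext w; rfl
  map_mul' a b := by ext w; rfl

/-- **The restriction hom `C → GL(W)`.** -/
def res (hW : C ≤ stab W) : ↥C →* LinearMap.GeneralLinearGroup k ↥W := (resEnd hW).toHomUnits

lemma res_apply (hW : C ≤ stab W) (c : ↥C) (w : ↥W) :
    (((res hW c : LinearMap.GeneralLinearGroup k ↥W) : ↥W →ₗ[k] ↥W) w : M) =
      ((c : LinearMap.GeneralLinearGroup k M) : M →ₗ[k] M) w := rfl

end Restrict

end Cfsg.Agent.H740
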