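import Mathlib
import Cfsg.Agent.H524.CCSub
import Cfsg.Agent.H524.RegTool
import Cfsg.Agent.H94.RankOne
import Cfsg.Agent.H681.ZerosPSL2
import Cfsg.Agent.S0333

/-!
# S4129, own characteristic, rank one groups: `PSL_2(q)`, `Sz(q)`, `²G₂(q)` (helper740)

Each of them has an abelian CC-subgroup, so `RegB` holds for all primes.
-/

set_option autoImplicit false

namespace Cfsg.Agent.H740.RegRankOne

open Subgroup Cfsg Cfsg.Agent.H524.DirRed

universe u

section gen

variable {S T : Type*} [Group S] [Group T]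

theorem CC.congr (e : S ≃* T) {A : Subgroup S} (h : CC A) : CC (A.map e.toMonoidHom) := by
  refine ⟨?_, ?_, ?_⟩
  · intro h1
    exact h.ne_bot ((Subgroup.map_eq_bot_iff_of_injective A e.injective).1 h1)
  · rintro _ ⟨a, ha, rfl⟩ _ ⟨b, hb, rfl⟩
    exact (h.comm a ha b hb).map e.toMonoidHom
  · rintro _ ⟨y, hy, rfl⟩ hy1 z hz
    have hy1' : y ≠ 1 := fun h => hy1 (by rw [h, map_one])
    rw [mem_centralizer_singleton_iff] at hz
    refine ⟨e.symm z, h.cent y hy hy1' ?_, by simp⟩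
    rw [mem_centralizer_singleton_iff]
    apply e.injective
    simpa using hz

theorem CC.of_zero {G : Type u} [Group G] {A : Subgroup G} (h : H504.ZeroTI.CC A) (h1 : Nat.card A ≠ 1) : CC A :=
  ⟨fun e => h1 (by rw [e, Subgroup.card_bot]), h.comm, fun y hy hy1 => (h.cent y hy hy1).le⟩

end gen

/-- **`PSL_2(q)`**, `q ≥ 4`, has an abelian CC-subgroup. -/
theorem cc_psl2 {S : Type*} [Group S] {F : Type} [Field F] [Fintype F] (h4 : 4 ≤ Fintype.card F)
    (e : S ≃* Matrix.ProjectiveSpecialLinearGroup (Fin 2) F) : ∃ T : Subgroup S, CC T := by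
  suffices h : ∃ C : Subgroup (Matrix.ProjectiveSpecialLinearGroup (Fin 2) F), CC C by
    obtain ⟨C, hC⟩ := h
    exact ⟨_, CC.congr e.symm hC⟩
  by_cases h3 : Fintype.card F % 4 = 3
  · refine ⟨_, CC.of_zero (H681.ZerosPSL2.cc_split h3) ?_⟩
    have h2 : (2 : F) ≠ 0 := (Cfsg.Agent.ClassicalGeometry.PSLTorus.two_ne_zero_iff_odd F).2 (Nat.odd_iff.2 (by omega))
    have := H681.ZerosPSL2.card_range_dH h2
    omega
  · rcases Nat.even_or_odd (Fintype.card F) with h2 | h2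
    · have hg : Nat.gcd 2 (Fintype.card F - 1) = 1 := by
        rw [Nat.even_iff] at h2
        have : Nat.Coprime 2 (Fintype.card F - 1) := by
          rw [Nat.coprime_two_left, Nat.odd_iff]
          omega
        exact this
      have hN : (Fintype.card F + 1) / Nat.gcd 2 (Fintype.card F - 1) = Fintype.card F + 1 := by
        rw [hg, Nat.div_one]
      obtain ⟨C, hC, hc⟩ := H681.ZerosPSL2.cc_nonsplit (F := F) (by rw [hN]; omega) (by rw [hN]; exact h2.add_one)
      exact ⟨C, CC.of_zero hC (by rw [hc, hN]; omega)⟩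
    · have hg : Nat.gcd 2 (Fintype.card F - 1) = 2 := by
        rw [Nat.odd_iff] at h2
        apply Nat.gcd_eq_left
        omega
      rw [Nat.odd_iff] at h2
      obtain ⟨C, hC, hc⟩ := H681.ZerosPSL2.cc_nonsplit (F := F) (by rw [hg]; omega)
        (by rw [hg, Nat.odd_iff]; omega)
      exact ⟨C, CC.of_zero hC (by rw [hc, hg]; omega)⟩

/-- **`Sz(q)`** has an abelian CC-subgroup. -/
theorem cc_sz {S : Type*} [Group S] (h : Lie.IsoSuzuki S) : ∃ T : Subgroup S, CC T := by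
  obtain ⟨F, i1, i2, m, hm, hF, ⟨e⟩⟩ := h
  obtain ⟨f⟩ := OddCyclic.ClaimC.SzIso.iso hm hF
  obtain ⟨A, hcyc, cA, cent, nA⟩ := S0333.result hm hF (2 ^ (2 * m + 1) + 2 ^ (m + 1) + 1) (by left; rfl)
  refine ⟨_, CC.congr (f.trans e.symm) (A := A) ⟨?_, ?_, fun y hy hy1 => (cent y hy hy1).le⟩⟩
  · intro h
    rw [h, Subgroup.card_bot] at cA
    have : 0 < 2 ^ (m + 1) := by positivity
    omega
  · intro a ha b hb
    have := hcyc.commGroup.mul_comm (⟨a, ha⟩ : A) ⟨b, hb⟩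
    exact congrArg Subtype.val this

/-- **`²G₂(q)`** has an abelian CC-subgroup. -/
theorem cc_ree {S : Type*} [Group S] (h : Lie.IsoRee S) : ∃ T : Subgroup S, CC T := by
  obtain ⟨K, i1, i2, m, hm, hK, ⟨e⟩⟩ := h
  obtain ⟨r, hr, hrd⟩ : ∃ r : ℕ, r.Prime ∧ r ∣ 3 ^ (2 * m + 1) + 3 ^ (m + 1) + 1 :=
    Nat.exists_prime_and_dvd (by
      have : 0 < 3 ^ (m + 1) := by positivity
      omega)
  obtain ⟨T, h1, h2, h3⟩ := (H94.RankOne.ree_cyc' hm hK hr (Or.inr hrd)).congr e.symm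
  have hfin : Finite S := Finite.of_equiv _ e.symm.toEquiv
  refine ⟨T, ?_, fun a ha b hb => ?_, h3⟩
  · rintro rfl
    rw [Subgroup.card_bot] at h1
    exact hr.one_lt.ne' (Nat.dvd_one.1 h1)
  · have := h2.commGroup.mul_comm (⟨a, ha⟩ : T) ⟨b, hb⟩
    exact congrArg Subtype.val this

section rows

variable {S : Type u} [Group S] [Finite S] [IsSimpleGroup S]

theorem regB_psl2 (hna : ¬ ∀ a b : S, a * b = b * a) {F : Type} [Field F] [Fintype F] (h4 : 4 ≤ Fintype.card F)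
    (e : S ≃* Matrix.ProjectiveSpecialLinearGroup (Fin 2) F) {p q : ℕ} (hp : p.Prime) (hq : q.Prime)
    (hd : q ∣ Nat.card S) : RegB S p q := by
  obtain ⟨T, hT⟩ := cc_psl2 h4 e
  exact hT.regB hna hp hq hd

theorem regB_sz (hna : ¬ ∀ a b : S, a * b = b * a) (h : Lie.IsoSuzuki S) {p q : ℕ} (hp : p.Prime) (hq : q.Prime)
    (hd : q ∣ Nat.card S) : RegB S p q := by
  obtain ⟨T, hT⟩ := cc_sz h
  exact hT.regB hna hp hq hd

theorem regB_ree (hna : ¬ ∀ a b : S, a * b = b * a) (h : Lie.IsoRee S) {p q : ℕ} (hp : p.Prime) (hq : q.Prime)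
    (hd : q ∣ Nat.card S) : RegB S p q := by
  obtain ⟨T, hT⟩ := cc_ree h
  exact hT.regB hna hp hq hd

end rows

end Cfsg.Agent.H740.RegRankOne
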