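import Cfsg.Agent.H424.DegTools
import Cfsg.Agent.H816.OutEmb
import Cfsg.Agent.H55.OutGen

/-!
# Five character degrees over a normal subgroup

`five_of`: a normal subgroup `M` of `G` with four degrees which stay different from each other and
from `1` after multiplication by divisors of `|G : M|` gives five degrees of `G`.

`index_dvd_out` : the index of a normal subgroup with trivial centralizer divides `|Out|`.
-/

set_option autoImplicit false

open Cfsg

namespace Cfsg.Agent.H740.FiveBase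

open Cfsg.Agent.H424.DegTools

universe u v

theorem finite_degrees (G : Type u) [Group G] [Finite G] : (charDegrees G).Finite := by
  have h : charDegrees G ⊆ ((Nat.divisors (Nat.card G) : Finset ℕ) : Set ℕ) := by
    intro d hd
    rw [Finset.mem_coe, Nat.mem_divisors]
    exact ⟨dvd_card hd, Nat.card_pos.ne'⟩
  exact (Finset.finite_toSet _).subset h

theorem exists_mul {G : Type u} [Group G] [Finite G] (M : Subgroup G) [M.Normal] {c : ℕ}
    (hc : c ∈ charDegrees M) : ∃ s : ℕ, s ∣ M.index ∧ c * s ∈ charDegrees G := by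
  obtain ⟨d, hd, hcd, h⟩ := clifford_up M hc
  refine ⟨d / c, h, ?_⟩
  rwa [Nat.mul_div_cancel' hcd]

theorem five_of {G : Type u} [Group G] [Finite G] (M : Subgroup G) [M.Normal] {c₁ c₂ c₃ c₄ : ℕ}
    (m₁ : c₁ ∈ charDegrees M) (m₂ : c₂ ∈ charDegrees M) (m₃ : c₃ ∈ charDegrees M) (m₄ : c₄ ∈ charDegrees M)
    (n₁ : c₁ ≠ 1) (n₂ : c₂ ≠ 1) (n₃ : c₃ ≠ 1) (n₄ : c₄ ≠ 1)
    (h₁₂ : ∀ s t, s ∣ M.index → t ∣ M.index → c₁ * s ≠ c₂ * t)
    (h₁₃ : ∀ s t, s ∣ M.index → t ∣ M.index → c₁ * s ≠ c₃ * t)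
    (h₁₄ : ∀ s t, s ∣ M.index → t ∣ M.index → c₁ * s ≠ c₄ * t)
    (h₂₃ : ∀ s t, s ∣ M.index → t ∣ M.index → c₂ * s ≠ c₃ * t)
    (h₂₄ : ∀ s t, s ∣ M.index → t ∣ M.index → c₂ * s ≠ c₄ * t)
    (h₃₄ : ∀ s t, s ∣ M.index → t ∣ M.index → c₃ * s ≠ c₄ * t) :
    5 ≤ (charDegrees G).ncard := by
  obtain ⟨s₁, d₁, e₁⟩ := exists_mul M m₁
  obtain ⟨s₂, d₂, e₂⟩ := exists_mul M m₂
  obtain ⟨s₃, d₃, e₃⟩ := exists_mul M m₃
  obtain ⟨s₄, d₄, e₄⟩ := exists_mul M m₄
  have hne : ∀ c s : ℕ, c ≠ 1 → c * s ≠ 1 := by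
    intro c s hc h
    exact hc (Nat.eq_one_of_mul_eq_one_right h)
  have key : (({1, c₁ * s₁, c₂ * s₂, c₃ * s₃, c₄ * s₄} : Finset ℕ) : Set ℕ) ⊆ charDegrees G := by
    intro x hx
    simp only [Finset.coe_insert, Finset.coe_singleton, Set.mem_insert_iff, Set.mem_singleton_iff] at hx
    rcases hx with rfl | rfl | rfl | rfl | rfl
    · exact one_mem_degrees
    all_goals assumption
  have hcard : ({1, c₁ * s₁, c₂ * s₂, c₃ * s₃, c₄ * s₄} : Finset ℕ).card = 5 := by
    have a1 := h₁₂ _ _ d₁ d₂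
    have a2 := h₁₃ _ _ d₁ d₃
    have a3 := h₁₄ _ _ d₁ d₄
    have a4 := h₂₃ _ _ d₂ d₃
    have a5 := h₂₄ _ _ d₂ d₄
    have a6 := h₃₄ _ _ d₃ d₄
    have b1 := (hne _ s₁ n₁).symm
    have b2 := (hne _ s₂ n₂).symm
    have b3 := (hne _ s₃ n₃).symm
    have b4 := (hne _ s₄ n₄).symm
    rw [Finset.card_insert_of_notMem (by simp only [Finset.mem_insert, Finset.mem_singleton]; tauto),
      Finset.card_insert_of_notMem (by simp only [Finset.mem_insert, Finset.mem_singleton]; tauto),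
      Finset.card_insert_of_notMem (by simp only [Finset.mem_insert, Finset.mem_singleton]; tauto),
      Finset.card_insert_of_notMem (by simp only [Finset.mem_singleton]; tauto), Finset.card_singleton]
  rw [← hcard, ← Set.ncard_coe_finset]
  exact Set.ncard_le_ncard key (finite_degrees G)

theorem index_dvd_out {G : Type u} [Group G] (M : Subgroup G) (hM : M.Normal)
    (hc : Subgroup.centralizer (M : Set G) = ⊥) : M.index ∣ Nat.card (Cfsg.Out M) :=
  H816.OutEmb.index_dvd M (by rw [hc]; exact bot_le)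

end Cfsg.Agent.H740.FiveBase
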