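import Cfsg.Agent.H740.FiveBase
import Cfsg.Agent.H678.SuzChar

/-!
# The exceptional characters of two tori with automizers of order 6
-/

set_option autoImplicit false

open Cfsg

namespace Cfsg.Agent.H740.FiveReeCC

open Cfsg.Agent.Characters Cfsg.Agent.Characters.CCBasic Cfsg.Agent.Characters.CCValues
  Cfsg.Agent.Characters.CCEstimates Cfsg.Agent.H678.CCExact Cfsg.Agent.H678.SuzChar Finset

universe u

variable {G : Type u} [Group G]

theorem sq_eps {ε c : ℤ} (hε : ε = 1 ∨ ε = -1) : (ε * c) ^ 2 = c ^ 2 := by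
  rcases hε with h | h <;> rw [h] <;> ring

variable [Fintype (IrrCharacter G)]

theorem c_cases {A : Subgroup G} {s : ℕ} (D : CCData A s 6) (hs : 3 ≤ s) (h2 : 2 ≤ ∑ ψ, D.f ψ ^ 2) :
    D.c = 0 ∨ D.c = D.ε := by
  have h4 := D.sq
  have hs' : (3 : ℤ) ≤ s := by exact_mod_cast hs
  obtain ⟨x, hx⟩ : ∃ x, x = D.ε * D.c := ⟨_, rfl⟩
  have hx2 : D.c ^ 2 = x ^ 2 := by rw [hx, sq_eps D.hε]
  have h5 : (2 : ℤ) * D.ε * D.c = 2 * x := by rw [hx]; ring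
  rw [hx2, h5] at h4
  have h6 : (s : ℤ) * x ^ 2 ≤ 4 + 2 * x := by
    push_cast at h4
    linarith
  have h7 : 3 * x ^ 2 ≤ 4 + 2 * x := le_trans (mul_le_mul_of_nonneg_right hs' (sq_nonneg x)) h6
  have h8 : x ≤ 1 := by nlinarith
  have h9 : 0 ≤ x := by nlinarith
  have h10 : x = 0 ∨ x = 1 := by omega
  rcases D.hε with h | h
  · rw [h] at hx
    rcases h10 with h11 | h11
    · left; linarith
    · right; rw [h]; linarith
  · rw [h] at hx
    rcases h10 with h11 | h11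
    · left; linarith
    · right; rw [h]; linarith

theorem sum_le_six {A : Subgroup G} {s : ℕ} (D : CCData A s 6) (hs : 3 ≤ s) (h2 : 2 ≤ ∑ ψ, D.f ψ ^ 2) :
    ∑ ψ, D.f ψ ^ 2 ≤ 6 := by
  have h4 := D.sq
  have hs' : (3 : ℤ) ≤ s := by exact_mod_cast hs
  rcases c_cases D hs h2 with h | h
  · rw [h] at h4
    push_cast at h4
    linarith
  · rw [h] at h4
    have h5 : D.ε ^ 2 = 1 := by rcases D.hε with h | h <;> rw [h] <;> norm_num
    have h6 : (2 : ℤ) * D.ε * D.ε = 2 := by linear_combination 2 * h5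
    rw [h5, h6] at h4
    push_cast at h4
    linarith

/-- The congruences of the degrees of the exceptional characters. -/
theorem main [Fintype G] {A B : Subgroup G} {sA sB : ℕ} (E : CCData A sA 6) (F : CCData B sB 6) (hsA : 3 ≤ sA)
    (hsB : 6 ≤ sB) (hcop : (Nat.card A).Coprime (Nat.card B)) (hA0 : A ≠ ⊥) (hB0 : B ≠ ⊥)
    {St : IrrCharacter G} (hne : one G ≠ St)
    (hStA : ∀ a ∈ A, a ≠ 1 → (St : G → ℂ) a = -1) (hStB : ∀ a ∈ B, a ≠ 1 → (St : G → ℂ) a = -1) :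
    ∃ (dA dB : ℕ) (x y z : ℤ), (∃ ψ : IrrCharacter G, charDegree (ψ : G → ℂ) = dA) ∧
      (∃ ψ : IrrCharacter G, charDegree (ψ : G → ℂ) = dB) ∧
      (x = 6 ∨ x = 7 ∨ x = -6 ∨ x = -7) ∧ (y = 6 ∨ y = 7 ∨ y = -6 ∨ y = -7) ∧ (z = 0 ∨ z = 1 ∨ z = -1) ∧
      (Nat.card A : ℤ) ∣ dA - x ∧ (Nat.card B : ℤ) ∣ dB - y ∧ (Nat.card A : ℤ) ∣ dB ∧
      (Nat.card B : ℤ) ∣ dA - z := by
  classical
  obtain ⟨o2, p2⟩ := const E hA0 (ψ := one G) (z := 1) (fun a _ _ => by rw [coe_one]; simp)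
  obtain ⟨o3, p3⟩ := const F hB0 (ψ := one G) (z := 1) (fun a _ _ => by rw [coe_one]; simp)
  obtain ⟨t2, u2⟩ := const E hA0 (ψ := St) (z := -1) (fun a ha ha1 => by rw [hStA a ha ha1]; simp)
  obtain ⟨t3, u3⟩ := const F hB0 (ψ := St) (z := -1) (fun a ha ha1 => by rw [hStB a ha ha1]; simp)
  have hAB := not_conj hcop
  have hBA := not_conj hcop.symm
  have dEF : ∀ a ∈ E.R, a ∉ F.R := fun a ha => E.disjoint F (by omega) hAB ha
  have lE := fun (R' : Finset (IrrCharacter G)) (z : ℤ) =>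
    lower E hne (by rw [p2]; norm_num) (by rw [u2]; norm_num) (R' := R') (z := z)
  have lF := fun (R' : Finset (IrrCharacter G)) (z : ℤ) =>
    lower F hne (by rw [p3]; norm_num) (by rw [u3]; norm_num) (R' := R') (z := z)
  have e2 : 2 ≤ ∑ ψ, E.f ψ ^ 2 := by simpa using lE ∅ 0 (by simp) (by simp) (by simp)
  have f2 : 2 ≤ ∑ ψ, F.f ψ ^ 2 := by simpa using lF ∅ 0 (by simp) (by simp) (by simp)
  obtain ⟨ψA, hψA⟩ : E.R.Nonempty := Finset.card_pos.1 (by rw [E.hcard]; omega)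
  obtain ⟨ψB, hψB⟩ : F.R.Nonempty := Finset.card_pos.1 (by rw [F.hcard]; omega)
  have hx : ∀ {ε c : ℤ}, (ε = 1 ∨ ε = -1) → (c = 0 ∨ c = ε) →
      (ε * (6 : ℕ) + c = 6 ∨ ε * (6 : ℕ) + c = 7 ∨ ε * (6 : ℕ) + c = -6 ∨ ε * (6 : ℕ) + c = -7) := by
    rintro ε c (rfl | rfl) (rfl | rfl) <;> norm_num
  have hEF : E.f ψB = 0 := by
    have h := lE F.R (E.f ψB) (fun χ hχ => F.f_eq E (by omega) hBA hA0 hχ hψB) o3 t3
    have h6 := sum_le_six E hsA e2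
    rw [F.hcard] at h
    have hs' : (6 : ℤ) ≤ sB := by exact_mod_cast hsB
    by_contra hz
    have h3 : 1 ≤ E.f ψB ^ 2 := by
      have := sq_nonneg (E.f ψB)
      have h7 : E.f ψB ^ 2 ≠ 0 := pow_ne_zero 2 hz
      omega
    nlinarith
  have hFE : F.f ψA = 0 ∨ F.f ψA = 1 ∨ F.f ψA = -1 := by
    have h := lF E.R (F.f ψA) (fun χ hχ => E.f_eq F (by omega) hAB hB0 hχ hψA) o2 t2
    have h6 := sum_le_six F (by omega) f2
    rw [E.hcard] at h
    have hs' : (3 : ℤ) ≤ sA := by exact_mod_cast hsA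
    have h7 : 3 * F.f ψA ^ 2 ≤ 4 := by
      have := mul_le_mul_of_nonneg_right hs' (sq_nonneg (F.f ψA))
      linarith
    have h8 : F.f ψA < 2 := by nlinarith
    have h9 : -2 < F.f ψA := by nlinarith
    omega
  refine ⟨E.d, F.d, E.ε * (6 : ℕ) + E.c, F.ε * (6 : ℕ) + F.c, F.f ψA, ⟨ψA, E.deg ψA hψA⟩, ⟨ψB, F.deg ψB hψB⟩,
    hx E.hε (c_cases E hsA e2), hx F.hε (c_cases F (by omega) f2), hFE, E.ddvd, F.ddvd, ?_, ?_⟩
  · have h := E.dvd ψB (fun h => dEF _ h hψB)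
    rwa [hEF, sub_zero, F.deg ψB hψB] at h
  · have h := F.dvd ψA (dEF _ hψA)
    rwa [E.deg ψA hψA] at h

/-- The arithmetic. -/
theorem arith {a b Q L dA dB : ℕ} {x y z : ℤ} (ha : (a : ℤ) ∣ Q + 1) (hb : (b : ℤ) ∣ Q + 1)
    (hx : x = 6 ∨ x = 7 ∨ x = -6 ∨ x = -7) (hy : y = 6 ∨ y = 7 ∨ y = -6 ∨ y = -7)
    (hz : z = 0 ∨ z = 1 ∨ z = -1) (h1 : (a : ℤ) ∣ dA - x) (h2 : (b : ℤ) ∣ dB - y) (h3 : (a : ℤ) ∣ dB)
    (h4 : (b : ℤ) ∣ dA - z)
    (hA : ∀ w : ℤ, w ≠ 0 → |w| ≤ 8 → ∀ s : ℕ, s ∣ L → ¬ (a : ℤ) ∣ w * s)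
    (hB : ∀ w : ℤ, w ≠ 0 → |w| ≤ 8 → ∀ s : ℕ, s ∣ L → ¬ (b : ℤ) ∣ w * s)
    (hL : 0 < L) (hLb : 2 * L < b) :
    dA ≠ 1 ∧ dB ≠ 1 ∧ (∀ s t, s ∣ L → t ∣ L → Q * s ≠ (Q + 1) * t) ∧
      (∀ s t, s ∣ L → t ∣ L → Q * s ≠ dA * t) ∧ (∀ s t, s ∣ L → t ∣ L → Q * s ≠ dB * t) ∧
      (∀ s t, s ∣ L → t ∣ L → (Q + 1) * s ≠ dA * t) ∧ (∀ s t, s ∣ L → t ∣ L → (Q + 1) * s ≠ dB * t) ∧
      (∀ s t, s ∣ L → t ∣ L → dA * s ≠ dB * t) := by
  have hx1 : 1 - x ≠ 0 ∧ |1 - x| ≤ 8 := by rcases hx with rfl | rfl | rfl | rfl <;> norm_num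
  have hx2 : x + 1 ≠ 0 ∧ |x + 1| ≤ 8 := by rcases hx with rfl | rfl | rfl | rfl <;> norm_num
  have hx3 : x ≠ 0 ∧ |x| ≤ 8 := by rcases hx with rfl | rfl | rfl | rfl <;> norm_num
  have hy3 : y ≠ 0 ∧ |y| ≤ 8 := by rcases hy with rfl | rfl | rfl | rfl <;> norm_num
  have hQs : ∀ s : ℕ, s ∣ L → ¬ (a : ℤ) ∣ Q * s := by
    intro s hs h
    apply hA 1 one_ne_zero (by norm_num) s hs
    have h5 : (a : ℤ) ∣ (Q + 1) * s - Q * s := dvd_sub (ha.mul_right _) h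
    have h6 : ((Q : ℤ) + 1) * s - Q * s = 1 * s := by ring
    rwa [h6] at h5
  have hdAs : ∀ s : ℕ, s ∣ L → ¬ (a : ℤ) ∣ dA * s := by
    intro s hs h
    apply hA x hx3.1 hx3.2 s hs
    have h5 : (a : ℤ) ∣ dA * s - (dA - x) * s := dvd_sub h (h1.mul_right _)
    have h6 : (dA : ℤ) * s - (dA - x) * s = x * s := by ring
    rwa [h6] at h5
  have hdBs : ∀ s : ℕ, s ∣ L → ¬ (b : ℤ) ∣ dB * s := by
    intro s hs h
    apply hB y hy3.1 hy3.2 s hs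
    have h5 : (b : ℤ) ∣ dB * s - (dB - y) * s := dvd_sub h (h2.mul_right _)
    have h6 : (dB : ℤ) * s - (dB - y) * s = y * s := by ring
    rwa [h6] at h5
  refine ⟨?_, ?_, ?_, ?_, ?_, ?_, ?_, ?_⟩
  · rintro rfl
    apply hA (1 - x) hx1.1 hx1.2 1 (one_dvd _)
    simpa using h1
  · rintro rfl
    apply hA 1 one_ne_zero (by norm_num) 1 (one_dvd _)
    simpa using h3
  · intro s t hs ht h
    have h' : (Q : ℤ) * s = (Q + 1) * t := by exact_mod_cast h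
    apply hQs s hs
    rw [h']
    exact ha.mul_right _
  · intro s t hs ht h
    have h' : (Q : ℤ) * s = dA * t := by exact_mod_cast h
    have hs0 : 0 < s := Nat.pos_of_dvd_of_pos hs hL
    have ht0 : 0 < t := Nat.pos_of_dvd_of_pos ht hL
    have hsL : s ≤ L := Nat.le_of_dvd hL hs
    have htL : t ≤ L := Nat.le_of_dvd hL ht
    have h5 : (b : ℤ) ∣ z * t + s := by
      have h6 : (b : ℤ) ∣ (Q + 1) * s - (dA - z) * t := dvd_sub (hb.mul_right _) (h4.mul_right _)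
      have h7 : ((Q : ℤ) + 1) * s - (dA - z) * t = z * t + s := by linear_combination h'
      rwa [h7] at h6
    rcases hz with rfl | rfl | rfl
    · apply hB 1 one_ne_zero (by norm_num) s hs
      have h6 : (0 : ℤ) * t + s = 1 * s := by ring
      rwa [h6] at h5
    · have h6 : (b : ℤ) ≤ 1 * t + s := Int.le_of_dvd (by positivity) h5
      omega
    · have h6 : (-1 : ℤ) * t + s = 0 := by
        apply Int.eq_zero_of_abs_lt_dvd h5
        rw [abs_lt]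
        constructor <;> omega
      have h7 : s = t := by omega
      subst h7
      have h8 : (Q : ℤ) = dA := mul_right_cancel₀ (by exact_mod_cast hs0.ne') h'
      apply hA (x + 1) hx2.1 hx2.2 1 (one_dvd _)
      rw [← h8] at h1
      have h9 : (a : ℤ) ∣ (Q + 1) - (Q - x) := dvd_sub ha h1
      have h10 : ((Q : ℤ) + 1) - (Q - x) = (x + 1) * (1 : ℕ) := by push_cast; ring
      rwa [h10] at h9
  · intro s t hs ht h
    have h' : (Q : ℤ) * s = dB * t := by exact_mod_cast h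
    apply hQs s hs
    rw [h']
    exact h3.mul_right _
  · intro s t hs ht h
    have h' : ((Q : ℤ) + 1) * s = dA * t := by exact_mod_cast h
    apply hdAs t ht
    rw [← h']
    exact ha.mul_right _
  · intro s t hs ht h
    have h' : ((Q : ℤ) + 1) * s = dB * t := by exact_mod_cast h
    apply hdBs t ht
    rw [← h']
    exact hb.mul_right _
  · intro s t hs ht h
    have h' : (dA : ℤ) * s = dB * t := by exact_mod_cast h
    apply hdAs s hs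
    rw [h']
    exact h3.mul_right _

end Cfsg.Agent.H740.FiveReeCC
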