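import Cfsg.Agent.H740.NFSz
import Cfsg.Agent.S1158
import Cfsg.Agent.S1073
import Cfsg.Agent.S2127
import Cfsg.Agent.LieRecognition.ReeFinal

/-!
# S5773: the row of the small Ree groups (helper740)
-/

set_option autoImplicit false

open Cfsg MulAction

namespace Cfsg.Agent.H740.NFRee

open Cfsg.Agent.H518.Dghp Cfsg.Agent.H176.NF Cfsg.Agent.H728.DghpHall Cfsg.Agent.H740.NFTools
  Cfsg.Agent.LieRecognition Cfsg.Agent.H740.NFSz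

universe u

theorem nums {m : ℕ} (hm : 1 ≤ m) : ∃ j a b c : ℕ, m ≤ j ∧ 3 ^ (2 * m + 1) = 12 * j ^ 2 + 12 * j + 3 ∧
    a = 12 * j ^ 2 + 6 * j + 1 ∧ b = 12 * j ^ 2 + 18 * j + 7 ∧ c = 6 * j ^ 2 + 6 * j + 1 ∧
    3 ^ (2 * m + 1) - 3 ^ (m + 1) + 1 = a ∧ 3 ^ (2 * m + 1) + 3 ^ (m + 1) + 1 = b ∧ (3 ^ (2 * m + 1) - 1) / 2 = c ∧
    3 ^ m = 2 * j + 1 := by
  obtain ⟨r, hr⟩ : ∃ r, r = 3 ^ m := ⟨_, rfl⟩
  have hr2 : 2 * m + 1 ≤ r := by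
    rw [hr]
    clear hr hm
    induction m with
    | zero => norm_num
    | succ k ih => rw [pow_succ]; omega
  have hrodd : Odd r := by rw [hr]; exact Odd.pow (by decide)
  obtain ⟨j, hj⟩ := hrodd
  have hq : 3 ^ (2 * m + 1) = 3 * r ^ 2 := by rw [hr]; ring
  have hs : 3 ^ (m + 1) = 3 * r := by rw [hr]; ring
  have hr3 : 3 * r ^ 2 = 12 * j ^ 2 + 12 * j + 3 := by rw [hj]; ring
  refine ⟨j, 12 * j ^ 2 + 6 * j + 1, 12 * j ^ 2 + 18 * j + 7, 6 * j ^ 2 + 6 * j + 1, by omega, by rw [hq, hr3],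
    rfl, rfl, rfl, ?_, ?_, ?_, by rw [← hr, hj]⟩
  · rw [hq, hs, hr3]; omega
  · rw [hq, hs, hr3]; omega
  · rw [hq, hr3]; omega

variable {K : Type u} [Field K] [Fintype K] {m : ℕ}

theorem nf0_ree (hm : 1 ≤ m) (hK : Fintype.card K = 3 ^ (2 * m + 1))
    (hout : outN (Cfsg.Lie.twistedG2 K (3 ^ m)) = 2 * m + 1) : NF0 (Cfsg.Lie.twistedG2 K (3 ^ m)) := by
  classical
  obtain ⟨j, a, b, c, hmj, hq, ha, hb, hc, ea, eb, ec, h3m⟩ := nums hm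
  have hcard := ReeFinal.card (K := K) hK
  have hS := S1158.result hm hK
  have hj1 : 1 ≤ j := by omega
  have hjj : j ≤ j ^ 2 := Nat.le_self_pow two_ne_zero j
  have hfin : Finite (Cfsg.Lie.twistedG2 K (3 ^ m)) := by
    apply Nat.finite_of_card_ne_zero
    rw [hcard]
    have h1 : 3 ^ (2 * m + 1) - 1 ≠ 0 := by omega
    positivity
  obtain ⟨A, -, cA, nA, zA⟩ := hS (3 ^ (2 * m + 1) - 3 ^ (m + 1) + 1, 6 * (3 ^ (2 * m + 1) - 3 ^ (m + 1) + 1)) (by simp)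
  obtain ⟨B, -, cB, nB, zB⟩ := hS (3 ^ (2 * m + 1) + 3 ^ (m + 1) + 1, 6 * (3 ^ (2 * m + 1) + 3 ^ (m + 1) + 1)) (by simp)
  obtain ⟨C, -, cC, nC, zC⟩ := hS ((3 ^ (2 * m + 1) - 1) / 2, 2 * (3 ^ (2 * m + 1) - 1)) (by simp)
  simp only at cA nA cB nB cC nC
  rw [ea] at cA nA
  rw [eb] at cB nB
  rw [ec] at cC
  have hq1 : 3 ^ (2 * m + 1) - 1 = 2 * c := by omega
  rw [hq1] at nC hcard
  have haz : (a : ℤ) = 12 * j ^ 2 + 6 * j + 1 := by rw [ha]; push_cast; ring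
  have hbz : (b : ℤ) = 12 * j ^ 2 + 18 * j + 7 := by rw [hb]; push_cast; ring
  have hcz : (c : ℤ) = 6 * j ^ 2 + 6 * j + 1 := by rw [hc]; push_cast; ring
  have hab : (3 ^ (2 * m + 1)) ^ 3 + 1 = 4 * (3 * j ^ 2 + 3 * j + 1) * (a * b) := by
    have : (((3 ^ (2 * m + 1)) ^ 3 + 1 : ℕ) : ℤ) = ((4 * (3 * j ^ 2 + 3 * j + 1) * (a * b) : ℕ) : ℤ) := by
      rw [hq]; push_cast; rw [haz, hbz]; ring
    exact_mod_cast this
  obtain ⟨d, hd⟩ : ∃ d, d = 3 * j ^ 2 + 3 * j + 1 := ⟨_, rfl⟩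
  have hdz : (d : ℤ) = 3 * j ^ 2 + 3 * j + 1 := by rw [hd]; push_cast; ring
  rw [← hd] at hab
  have cab : IsCoprime (a : ℤ) (b : ℤ) := ⟨1 + j, -j, by rw [haz, hbz]; ring⟩
  have ca2 : IsCoprime (a : ℤ) ((2 : ℕ) : ℤ) := ⟨1, -(6 * j ^ 2 + 3 * j), by rw [haz]; push_cast; ring⟩
  have cb2 : IsCoprime (b : ℤ) ((2 : ℕ) : ℤ) := ⟨1, -(6 * j ^ 2 + 9 * j + 3), by rw [hbz]; push_cast; ring⟩
  have cc2 : IsCoprime (c : ℤ) ((2 : ℕ) : ℤ) := ⟨1, -(3 * j ^ 2 + 3 * j), by rw [hcz]; push_cast; ring⟩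
  have ca3 : IsCoprime (a : ℤ) ((3 : ℕ) : ℤ) := ⟨1, -(4 * j ^ 2 + 2 * j), by rw [haz]; push_cast; ring⟩
  have cb3 : IsCoprime (b : ℤ) ((3 : ℕ) : ℤ) := ⟨1, -(4 * j ^ 2 + 6 * j + 2), by rw [hbz]; push_cast; ring⟩
  have cc3 : IsCoprime (c : ℤ) ((3 : ℕ) : ℤ) := ⟨1, -(2 * j ^ 2 + 2 * j), by rw [hcz]; push_cast; ring⟩
  -- `(q + 1) a b - (q - 1)(q ^ 2 + q + 1) = 2`
  obtain ⟨Q, hQ⟩ : ∃ Q : ℤ, Q = 12 * j ^ 2 + 12 * j + 3 := ⟨_, rfl⟩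
  have hrel : (Q + 1) * a * b - 2 * c * (Q ^ 2 + Q + 1) = 2 := by rw [haz, hbz, hcz, hQ]; ring
  have cac : IsCoprime (a : ℤ) (c : ℤ) := by
    refine ⟨1 - (6 * j ^ 2 + 3 * j) * (Q + 1) * b, 2 * (6 * j ^ 2 + 3 * j) * (Q ^ 2 + Q + 1), ?_⟩
    have h1 : (a : ℤ) = 1 + 2 * (6 * j ^ 2 + 3 * j) := by rw [haz]; ring
    linear_combination h1 - (6 * j ^ 2 + 3 * j : ℤ) * hrel
  have cbc : IsCoprime (b : ℤ) (c : ℤ) := by
    refine ⟨1 - (6 * j ^ 2 + 9 * j + 3) * (Q + 1) * a, 2 * (6 * j ^ 2 + 9 * j + 3) * (Q ^ 2 + Q + 1), ?_⟩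
    have h1 : (b : ℤ) = 1 + 2 * (6 * j ^ 2 + 9 * j + 3) := by rw [hbz]; ring
    linear_combination h1 - (6 * j ^ 2 + 9 * j + 3 : ℤ) * hrel
  -- `d = (q + 1) / 4`: `a b = (q + 1) ^ 2 - 3 q`, so modulo `d`: `a b = 3`, and `3 = 1 + 2`...
  have cdc : IsCoprime (c : ℤ) (d : ℤ) := ⟨-1, 2, by rw [hcz, hdz]; ring⟩
  have cda : IsCoprime (a : ℤ) (d : ℤ) := by
    -- `a b - 16 d ^ 2 + 12 d = 3`, `d = 1 + 3 (j ^ 2 + j)`
    have h1 : (a : ℤ) * b = 16 * d ^ 2 - 12 * d + 3 := by rw [haz, hbz, hdz]; ring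
    have h2 : (d : ℤ) = 1 + 3 * (j ^ 2 + j) := by rw [hdz]; ring
    refine ⟨-(j ^ 2 + j) * b, 1 + (j ^ 2 + j) * (16 * d - 12), ?_⟩
    linear_combination h2 - (j ^ 2 + j : ℤ) * h1
  have cdb : IsCoprime (b : ℤ) (d : ℤ) := by
    have h1 : (a : ℤ) * b = 16 * d ^ 2 - 12 * d + 3 := by rw [haz, hbz, hdz]; ring
    have h2 : (d : ℤ) = 1 + 3 * (j ^ 2 + j) := by rw [hdz]; ring
    refine ⟨-(j ^ 2 + j) * a, 1 + (j ^ 2 + j) * (16 * d - 12), ?_⟩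
    linear_combination h2 - (j ^ 2 + j : ℤ) * h1
  rw [hab] at hcard
  have iA : A.index = (3 ^ (2 * m + 1)) ^ 3 * (2 * c) * (4 * d) * b := index_of (by omega) cA (by rw [hcard]; ring)
  have iB : B.index = (3 ^ (2 * m + 1)) ^ 3 * (2 * c) * (4 * d) * a := index_of (by omega) cB (by rw [hcard]; ring)
  have iC : C.index = (3 ^ (2 * m + 1)) ^ 3 * 2 * (4 * d) * (a * b) := index_of (by omega) cC (by rw [hcard]; ring)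
  have h3q : ∀ x : ℤ, IsCoprime x ((3 : ℕ) : ℤ) → IsCoprime x (((3 ^ (2 * m + 1)) ^ 3 : ℕ) : ℤ) := by
    intro x h1
    push_cast
    exact h1.pow_right.pow_right
  have h4 : ∀ x : ℤ, IsCoprime x ((2 : ℕ) : ℤ) → IsCoprime x ((4 : ℕ) : ℤ) := by
    intro x h1
    have e : ((4 : ℕ) : ℤ) = ((2 : ℕ) : ℤ) ^ 2 := by norm_num
    rw [e]
    exact h1.pow_right
  have h6 : ∀ x : ℤ, IsCoprime x ((2 : ℕ) : ℤ) → IsCoprime x ((3 : ℕ) : ℤ) → IsCoprime x ((6 : ℕ) : ℤ) := by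
    intro x h1 h2
    have e : ((6 : ℕ) : ℤ) = ((2 : ℕ) : ℤ) * ((3 : ℕ) : ℤ) := by norm_num
    rw [e]
    exact h1.mul_right h2
  have mula : ∀ {x y z : ℕ}, IsCoprime (x : ℤ) (y : ℤ) → IsCoprime (x : ℤ) (z : ℤ) →
      IsCoprime (x : ℤ) ((y * z : ℕ) : ℤ) := by
    intro x y z h1 h2
    push_cast
    exact h1.mul_right h2
  have eA : ∀ r : ℕ, r.Prime → r ∣ a → ¬ r ∣ A.index ∧ ¬ r ∣ 6 * b ∧ ¬ r ∣ 2 * (2 * c) := fun r hr h =>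
    ⟨not_dvd_of_cop hr (by rw [iA]; exact mula (mula (mula (h3q _ ca3) (mula ca2 cac)) (mula (h4 _ ca2) cda)) cab) h,
      not_dvd_of_cop hr (mula (h6 _ ca2 ca3) cab) h, not_dvd_of_cop hr (mula ca2 (mula ca2 cac)) h⟩
  have eB : ∀ r : ℕ, r.Prime → r ∣ b → ¬ r ∣ B.index ∧ ¬ r ∣ 6 * a ∧ ¬ r ∣ 2 * (2 * c) := fun r hr h =>
    ⟨not_dvd_of_cop hr (by
      rw [iB]; exact mula (mula (mula (h3q _ cb3) (mula cb2 cbc)) (mula (h4 _ cb2) cdb)) cab.symm) h,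
      not_dvd_of_cop hr (mula (h6 _ cb2 cb3) cab.symm) h, not_dvd_of_cop hr (mula cb2 (mula cb2 cbc)) h⟩
  have eC : ∀ r : ℕ, r.Prime → r ∣ c → ¬ r ∣ C.index ∧ ¬ r ∣ 6 * a ∧ ¬ r ∣ 6 * b := fun r hr h =>
    ⟨not_dvd_of_cop hr (by
      rw [iC]; exact mula (mula (mula (h3q _ cc3) cc2) (mula (h4 _ cc2) cdc)) (mula cac.symm cbc.symm)) h,
      not_dvd_of_cop hr (mula (h6 _ cc2 cc3) cac.symm) h, not_dvd_of_cop hr (mula (h6 _ cc2 cc3) cbc.symm) h⟩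
  have hlt : ∀ x : ℕ, 2 * m + 1 < x → ¬ x ∣ outN (Cfsg.Lie.twistedG2 K (3 ^ m)) := by
    intro x hx h
    rw [hout] at h
    have := Nat.le_of_dvd (by omega) h
    omega
  refine nf0_three (n₁ := a) (n₂ := b) (n₃ := c) ?_ ?_ ?_ ?_ ?_ ?_ (hlt _ (by omega)) (hlt _ (by omega)) (hlt _ (by omega))
  · intro r s hr hs h1 h2
    exact sep_tori (A := A) (B := B) hr hs (fun A₀ k1 k2 => (zA A₀ k1 k2).le) (fun A₀ k1 k2 => (zB A₀ k1 k2).le)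
      (eA r hr h1).1 (eB s hs h2).1 (by rw [nA]; exact (eB s hs h2).2.1) (by rw [nB]; exact (eA r hr h1).2.1)
  · intro r s hr hs h1 h2
    exact sep_tori (A := A) (B := C) hr hs (fun A₀ k1 k2 => (zA A₀ k1 k2).le) (fun A₀ k1 k2 => (zC A₀ k1 k2).le)
      (eA r hr h1).1 (eC s hs h2).1 (by rw [nA]; exact (eC s hs h2).2.1) (by rw [nC]; exact (eA r hr h1).2.2)
  · intro r s hr hs h1 h2
    exact sep_tori (A := B) (B := C) hr hs (fun A₀ k1 k2 => (zB A₀ k1 k2).le) (fun A₀ k1 k2 => (zC A₀ k1 k2).le)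
      (eB r hr h1).1 (eC s hs h2).1 (by rw [nB]; exact (eC s hs h2).2.2) (by rw [nC]; exact (eB r hr h1).2.2)
  · rw [hcard]; exact ⟨(3 ^ (2 * m + 1)) ^ 3 * (2 * c) * (4 * d) * b, by ring⟩
  · rw [hcard]; exact ⟨(3 ^ (2 * m + 1)) ^ 3 * (2 * c) * (4 * d) * a, by ring⟩
  · rw [hcard]; exact ⟨(3 ^ (2 * m + 1)) ^ 3 * 2 * (4 * d) * (a * b), by ring⟩

/-- **The small Ree groups.** -/
theorem nf_ree {T : Type u} [Group T] (h : Lie.IsoRee T) : NF T := by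
  obtain ⟨K, _, _, m, hm, hK, ⟨e⟩⟩ := h
  have hs : IsSimpleGroup (Cfsg.Lie.twistedG2 K (3 ^ m)) := (S1073.result hm hK).1
  have hcard := ReeFinal.card (K := K) hK
  have hq : 27 ≤ 3 ^ (2 * m + 1) := by
    calc 27 = 3 ^ 3 := by norm_num
      _ ≤ 3 ^ (2 * m + 1) := Nat.pow_le_pow_right (by norm_num) (by omega)
  have hfin : Finite (Cfsg.Lie.twistedG2 K (3 ^ m)) := by
    apply Nat.finite_of_card_ne_zero
    rw [hcard]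
    have h4 : 3 ^ (2 * m + 1) - 1 ≠ 0 := by omega
    positivity
  have hna : ¬ ∀ a b : Cfsg.Lie.twistedG2 K (3 ^ m), a * b = b * a := by
    refine not_comm _ (x := (3 ^ (2 * m + 1)) ^ 3 * (3 ^ (2 * m + 1) - 1)) (y := (3 ^ (2 * m + 1)) ^ 3 + 1) ?_ ?_ hcard
    · have h5 : 1 ≤ (3 ^ (2 * m + 1)) ^ 3 := Nat.one_le_pow _ _ (by omega)
      have h6 : 26 ≤ 3 ^ (2 * m + 1) - 1 := by omega
      nlinarith
    · have h5 : 1 ≤ (3 ^ (2 * m + 1)) ^ 3 := Nat.one_le_pow _ _ (by omega)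
      omega
  have hout : outN (Cfsg.Lie.twistedG2 K (3 ^ m)) = 2 * m + 1 := S2127.result hm hK
  exact NF.congr e.symm (NF0.nf (conj_injective _ hna) (nf0_ree hm hK hout))

end Cfsg.Agent.H740.NFRee
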