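import Cfsg.Agent.H740.NFTwF
import Cfsg.Agent.H729.NFTool
import Cfsg.Agent.CpAutTits.Row
import Cfsg.Agent.H547.SelfCent.Tits
import Cfsg.Agent.H393.Iso.TitsJ4
import Cfsg.Agent.S1074

/-!
# S5773: the Tits group (helper740)
-/

set_option autoImplicit false

namespace Cfsg.Agent.H740.NFTits

open Cfsg Subgroup
open Cfsg.Agent.H518.Dghp Cfsg.Agent.H176.NF Cfsg.Agent.H740.NFTools Cfsg.Agent.H740.NFSz
open Cfsg.Agent.CpAutTits

universe u v

/-- a fixed point free action -/
theorem dvd_of_free {G : Type u} [Group G] [Finite G] {Q U : Subgroup G} (hn : Q ≤ normalizer (U : Set G))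
    (hfix : ∀ a ∈ Q, a ≠ 1 → ∀ u ∈ U, a * u = u * a → u = 1) : Nat.card Q ∣ Nat.card U - 1 := by
  classical
  let act : MulAction ↥Q {u : ↥U // u ≠ 1} :=
    { smul := fun g u => ⟨⟨(g : G) * ((u : ↥U) : G) * (g : G)⁻¹, (Subgroup.mem_normalizer_iff.1 (hn g.2) (u : ↥U)).1 (u : ↥U).2⟩, by
        intro h
        apply u.2
        apply Subtype.ext
        exact conj_eq_one_iff.1 (congrArg Subtype.val h)⟩
      one_smul := fun u => Subtype.ext (Subtype.ext (by
        show ((1 : ↥Q) : G) * ((u : ↥U) : G) * ((1 : ↥Q) : G)⁻¹ = ((u : ↥U) : G)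
        simp))
      mul_smul := fun g h u => Subtype.ext (Subtype.ext (by
        show ((g * h : ↥Q) : G) * ((u : ↥U) : G) * ((g * h : ↥Q) : G)⁻¹ =
          (g : G) * ((h : G) * ((u : ↥U) : G) * (h : G)⁻¹) * (g : G)⁻¹
        rw [Subgroup.coe_mul]
        group)) }
  have hst : ∀ u : {u : ↥U // u ≠ 1}, MulAction.stabilizer ↥Q u = ⊥ := by
    intro u
    rw [Subgroup.eq_bot_iff_forall]
    intro g hg
    by_contra h1
    apply u.2
    apply Subtype.ext
    have h2 : (g : G) * ((u : ↥U) : G) * (g : G)⁻¹ = ((u : ↥U) : G) :=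
      congrArg (fun w : {u : ↥U // u ≠ 1} => ((w : ↥U) : G)) (MulAction.mem_stabilizer_iff.1 hg)
    exact hfix g g.2 (fun h3 => h1 (Subtype.ext h3)) _ (u : ↥U).2 (mul_inv_eq_iff_eq_mul.1 h2)
  have e := Nat.card_congr (MulAction.selfEquivOrbitsQuotientProd hst)
  rw [Nat.card_prod] at e
  have h4 : Nat.card {u : ↥U // u ≠ 1} = Nat.card U - 1 := by
    have := Fintype.ofFinite ↥U
    rw [Nat.card_eq_fintype_card, Nat.card_eq_fintype_card, Fintype.card_subtype_compl, Fintype.card_subtype_eq]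
  rw [← h4, e]
  exact dvd_mul_left _ _

section

variable {G : Type u} [Group G] [Finite G] {P : Subgroup G}

/-- subgroups of order 25 -/
theorem sylow_five (h : Hyp P) {Q : Subgroup G} (hQ : Nat.card Q = 25) :
    (∀ a ∈ Q, a ^ 5 = 1) ∧ ∀ a ∈ Q, ∀ b ∈ Q, a * b = b * a := by
  have : Fact (Nat.Prime 5) := ⟨by norm_num⟩
  have hQp : IsPGroup 5 ↥Q := IsPGroup.of_card (n := 2) (by rw [hQ]; norm_num)
  obtain ⟨S, hS⟩ := hQp.exists_le_sylow
  obtain ⟨g, hg⟩ := MulAction.exists_smul_eq G S (h.isPGroup.toSylow (by rw [h.index]; norm_num))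
  have hmem : ∀ a ∈ Q, g * a * g⁻¹ ∈ P := by
    intro a ha
    have h1 : g * a * g⁻¹ ∈ ((g • S : Sylow 5 G) : Subgroup G) := by
      rw [Sylow.coe_subgroup_smul]
      exact Subgroup.smul_mem_pointwise_smul _ _ _ (hS ha)
    rw [hg] at h1
    exact h1
  constructor
  · intro a ha
    have h2 := h.exp _ (hmem a ha)
    rw [conj_pow] at h2
    exact conj_eq_one_iff.1 h2
  · intro a ha b hb
    have h2 := h.comm _ (hmem a ha) _ (hmem b hb)
    have h3 : g * (a * b) * g⁻¹ = g * (b * a) * g⁻¹ := by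
      calc g * (a * b) * g⁻¹ = g * a * g⁻¹ * (g * b * g⁻¹) := by group
        _ = g * b * g⁻¹ * (g * a * g⁻¹) := h2
        _ = _ := by group
    exact mul_left_cancel (mul_right_cancel h3)

/-- an involution commutes with no subgroup of order 25 -/
theorem no_two (h : Hyp P) {Q U : Subgroup G} (hQ : Nat.card Q = 25) (hU : IsPGroup 2 ↥U)
    (hn : Q ≤ normalizer (U : Set G)) : U = ⊥ := by
  have : Fact (Nat.Prime 2) := ⟨Nat.prime_two⟩
  obtain ⟨hexp, hcomm⟩ := sylow_five h hQ
  have hord : ∀ a ∈ Q, a ≠ 1 → orderOf a = 5 := by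
    intro a ha h1
    have : Fact (Nat.Prime 5) := ⟨by norm_num⟩
    exact orderOf_eq_prime (hexp a ha) h1
  have hfix : ∀ a ∈ Q, a ≠ 1 → ∀ u ∈ U, a * u = u * a → u = 1 := by
    intro a ha ha1 u hu hau
    by_contra hu1
    -- the fixed points
    set W := U ⊓ centralizer ({a} : Set G) with hW
    have hWg : IsPGroup 2 ↥W := hU.to_le inf_le_left
    have hWc : Nat.card W ∣ 50 := by
      rw [← h.card_cent (hord a ha ha1)]
      exact Subgroup.card_dvd_of_le inf_le_right
    have hW2 : Nat.card W ≤ 2 := by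
      obtain ⟨k, hk⟩ := hWg.exists_card_eq
      rw [hk] at hWc ⊢
      have hk1 : k ≤ 1 := by
        by_contra hk2
        push Not at hk2
        have h1 : 2 ^ 2 ∣ 50 := (pow_dvd_pow 2 hk2).trans hWc
        norm_num at h1
      calc 2 ^ k ≤ 2 ^ 1 := Nat.pow_le_pow_right (by norm_num) hk1
        _ = 2 := by norm_num
    have huW : u ∈ W := ⟨hu, mem_centralizer_singleton_iff.2 hau.symm⟩
    have huniq : ∀ w ∈ W, w ≠ 1 → w = u := by
      intro w hw hw1
      by_contra hwu
      have h3 : 2 < Nat.card W := by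
        have hf : Function.Injective (fun i : Fin 3 => (if i = 0 then ⟨1, W.one_mem⟩ else if i = 1 then ⟨u, huW⟩ else ⟨w, hw⟩ : ↥W)) := by
          intro i j hij
          fin_cases i <;> fin_cases j <;> simp at hij ⊢ <;> first | exact hu1 hij | exact hu1 hij.symm | exact hw1 hij | exact hw1 hij.symm | exact hwu hij | exact hwu hij.symm
        have h4 := Nat.card_le_card_of_injective _ hf
        rw [Nat.card_eq_fintype_card, Fintype.card_fin] at h4
        omega
      omega
    have hu2 : orderOf u = 2 := by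
      obtain ⟨j, hj⟩ := (IsPGroup.iff_orderOf.1 hWg) ⟨u, huW⟩
      rw [Subgroup.orderOf_mk] at hj
      have h5 : orderOf u ∣ Nat.card W := by
        have h6 : orderOf (⟨u, huW⟩ : ↥W) ∣ Nat.card W := orderOf_dvd_natCard _
        rwa [Subgroup.orderOf_mk] at h6
      have h7 : orderOf u ≤ 2 := (Nat.le_of_dvd Nat.card_pos h5).trans hW2
      have h8 : orderOf u ≠ 1 := fun h9 => hu1 (orderOf_eq_one_iff.1 h9)
      have h9 : 0 < orderOf u := orderOf_pos u
      omega
    have hcQ : ∀ b ∈ Q, b * u = u * b := by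
      intro b hb
      have h10 : b * u * b⁻¹ ∈ W := by
        refine ⟨(Subgroup.mem_normalizer_iff.1 (hn hb) u).1 hu, ?_⟩
        show b * u * b⁻¹ ∈ centralizer ({a} : Set G)
        rw [mem_centralizer_singleton_iff]
        have h11 : b * a = a * b := hcomm b hb a ha
        have h12 : b⁻¹ * a = a * b⁻¹ := by
          rw [inv_mul_eq_iff_eq_mul, ← mul_assoc, h11, mul_inv_cancel_right]
        calc b * u * b⁻¹ * a = b * u * (b⁻¹ * a) := by group
          _ = b * (u * a) * b⁻¹ := by rw [h12]; group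
          _ = b * (a * u) * b⁻¹ := by rw [hau]
          _ = (b * a) * u * b⁻¹ := by group
          _ = (a * b) * u * b⁻¹ := by rw [h11]
          _ = a * (b * u * b⁻¹) := by group
      have h13 := huniq _ h10 (fun h14 => hu1 (conj_eq_one_iff.1 h14))
      exact mul_inv_eq_iff_eq_mul.1 h13
    have h15 := h.ten a (hord a ha ha1) u hu2 hau.symm
    have h16 : Q ≤ centralizer ({a} : Set G) ⊓ centralizer ({u} : Set G) := fun b hb =>
      ⟨mem_centralizer_singleton_iff.2 (hcomm b hb a ha), mem_centralizer_singleton_iff.2 (hcQ b hb)⟩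
    have h17 := Nat.le_of_dvd Nat.card_pos (Subgroup.card_dvd_of_le h16)
    rw [h15, hQ] at h17
    omega
  have h18 := dvd_of_free hn hfix
  obtain ⟨k, hk⟩ := hU.exists_card_eq
  have hk11 : k ≤ 11 := by
    have h19 : 2 ^ k ∣ 2 ^ 11 * (27 * 25 * 13) := by
      rw [← hk]
      refine (Subgroup.card_subgroup_dvd_card U).trans ?_
      rw [h.card]; norm_num
    have h20 : 2 ^ k ∣ 2 ^ 11 := by
      refine Nat.Coprime.dvd_of_dvd_mul_right ?_ h19
      exact Nat.Coprime.pow_left _ (by norm_num)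
    exact (Nat.pow_dvd_pow_iff_le_right (by norm_num)).1 h20
  rw [hQ, hk] at h18
  have hk0 : k = 0 := by
    interval_cases k <;> first | rfl | (exfalso; revert h18; decide)
  rw [hk0, pow_zero] at hk
  exact Subgroup.card_eq_one.1 hk

/-- **Solvable subgroups of order divisible by 25.** -/
theorem bd_five (h : Hyp P) (M : Subgroup G) (hM : Group.IsSolvable ↥M) (h25 : 25 ∣ Nat.card M) :
    (Nat.card M).factorization 2 ≤ 5 := by
  classical
  have hf2 : Fact (Nat.Prime 2) := ⟨Nat.prime_two⟩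
  have hf5 : Fact (Nat.Prime 5) := ⟨by norm_num⟩
  obtain ⟨K, hKM, hK1, hK2⟩ := Cfsg.Agent.OddOrderLocal.HallPi.exists_isPiHallOf hM ({2, 5} : Set ℕ)
  have hKs : Group.IsSolvable ↥K := isSolvable_of_le hKM hM
  have hmul : Nat.card K * K.relIndex M = Nat.card M := by
    have h := Subgroup.relIndex_mul_relIndex (⊥ : Subgroup G) K M bot_le hKM
    rwa [Subgroup.relIndex_bot_left, Subgroup.relIndex_bot_left] at h
  have hidx0 : K.relIndex M ≠ 0 := by
    intro h
    rw [h, mul_zero] at hmul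
    exact Nat.card_pos.ne hmul
  have h2i : ¬ 2 ∣ K.relIndex M := hK2 2 Nat.prime_two (by simp)
  have h5i : ¬ 5 ∣ K.relIndex M := hK2 5 (by norm_num) (by simp)
  have hfac : (Nat.card M).factorization 2 = (Nat.card K).factorization 2 := by
    rw [← hmul, Nat.factorization_mul Nat.card_pos.ne' hidx0, Finsupp.add_apply,
      Nat.factorization_eq_zero_of_not_dvd h2i, add_zero]
  rw [hfac]
  have h25K : 25 ∣ Nat.card K := by
    have h1 : Nat.Coprime 25 (K.relIndex M) := by
      have h2 : Nat.Coprime (5 ^ 2) (K.relIndex M) := Nat.Coprime.pow_left _ ((Nat.Prime.coprime_iff_not_dvd (by norm_num)).2 h5i)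
      exact h2
    rw [← hmul] at h25
    exact h1.dvd_of_dvd_mul_right h25
  obtain ⟨Q, hQ⟩ := Sylow.exists_subgroup_card_pow_prime (G := ↥K) 5 (n := 2) h25K
  have hQ' : Nat.card (Q.map K.subtype) = 25 := by
    rw [Subgroup.card_map_of_injective K.subtype_injective, hQ]; norm_num
  have hKn : Nontrivial ↥K := by
    rw [← Finite.one_lt_card_iff_nontrivial]
    exact lt_of_lt_of_le (by norm_num) (Nat.le_of_dvd Nat.card_pos h25K)
  obtain ⟨q, hq, N, hNn, hN1, hNab, hNq⟩ := Cfsg.Agent.Solvable.SZ.exists_normal_elemAb ↥K hKs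
  have hfq : Fact q.Prime := ⟨hq⟩
  have hNg : IsPGroup q ↥N := fun x => ⟨1, by rw [pow_one]; exact Subtype.ext (hNq x x.2)⟩
  obtain ⟨a, ha, ha1⟩ : ∃ u ∈ N, u ≠ 1 := by
    by_contra h
    push Not at h
    exact hN1 ((Subgroup.eq_bot_iff_forall N).2 h)
  have hao : orderOf a = q := orderOf_eq_prime (hNq a ha) ha1
  have hqK : q ∣ Nat.card K := by
    rw [← hao]
    exact orderOf_dvd_natCard a
  have hq25 : q = 2 ∨ q = 5 := by simpa using hK1 q hq hqK
  have hq5 : q = 5 := by
    rcases hq25 with h2 | h5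
    · exfalso
      subst h2
      have h3 : N.map K.subtype = ⊥ := by
        refine no_two h hQ' (hNg.map _) ?_
        rintro _ ⟨b, hb, rfl⟩
        rw [Subgroup.mem_normalizer_iff]
        intro g
        constructor
        · rintro ⟨w, hw, rfl⟩
          exact ⟨b * w * b⁻¹, hNn.conj_mem w hw b, rfl⟩
        · rintro ⟨w, hw, hw2⟩
          refine ⟨b⁻¹ * w * b, ?_, ?_⟩
          · have h5 := hNn.conj_mem w hw b⁻¹
            rwa [inv_inv] at h5
          · have h6 : (w : G) = (b : G) * g * (b : G)⁻¹ := hw2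
            show (b : G)⁻¹ * (w : G) * (b : G) = g
            rw [h6]
            group
      exact hN1 ((Subgroup.map_eq_bot_iff_of_injective _ K.subtype_injective).1 h3)
    · exact h5
  subst hq5
  -- the order of `K`
  have hNcard : Nat.card N ≤ 25 := by
    obtain ⟨k, hk⟩ := hNg.exists_card_eq
    have h1 : 5 ^ k ∣ 5 ^ 2 * (2 ^ 11 * 27 * 13) := by
      rw [← hk]
      refine (Subgroup.card_subgroup_dvd_card N).trans ((Subgroup.card_subgroup_dvd_card K).trans ?_)
      rw [h.card]; norm_num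
    have h2 : 5 ^ k ∣ 5 ^ 2 := by
      refine Nat.Coprime.dvd_of_dvd_mul_right ?_ h1
      exact Nat.Coprime.pow_left _ (by norm_num)
    rw [hk]
    exact Nat.le_of_dvd (by norm_num) h2
  have hKcard : Nat.card K ≤ 24 * 50 := by
    let _ : MulAction ↥K G := MulAction.compHom G ((MulAut.conj : G →* MulAut G).comp K.subtype)
    have hsm : ∀ (x : ↥K) (y : G), x • y = (x : G) * y * (x : G)⁻¹ := fun x y => rfl
    have h1 := MulAction.index_stabilizer ↥K (a : G)
    have h2 := (MulAction.stabilizer ↥K (a : G)).card_mul_index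
    have h3 : (MulAction.orbit ↥K (a : G)).ncard ≤ 24 := by
      have h4 : MulAction.orbit ↥K (a : G) ⊆ ((N.map K.subtype : Subgroup G) : Set G) \ {1} := by
        rintro _ ⟨x, rfl⟩
        refine ⟨⟨x * a * x⁻¹, hNn.conj_mem a ha x, rfl⟩, fun h5 => ha1 ?_⟩
        exact Subtype.ext (conj_eq_one_iff.1 (show (x : G) * (a : G) * (x : G)⁻¹ = 1 from h5))
      have h6 := Set.ncard_le_ncard h4 (Set.toFinite _)
      rw [Set.ncard_sdiff_singleton_of_mem (show (1 : G) ∈ ((N.map K.subtype : Subgroup G) : Set G) from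
        (N.map K.subtype).one_mem)] at h6
      have h7 : ((N.map K.subtype : Subgroup G) : Set G).ncard = Nat.card N := by
        rw [← Subgroup.card_map_of_injective K.subtype_injective]
        rfl
      omega
    have h8 : Nat.card (MulAction.stabilizer ↥K (a : G)) ≤ 50 := by
      have ha5 : orderOf (a : G) = 5 := by rw [Subgroup.orderOf_coe, hao]
      rw [← h.card_cent ha5]
      rw [← Subgroup.card_map_of_injective K.subtype_injective]
      refine Nat.le_of_dvd Nat.card_pos (Subgroup.card_dvd_of_le ?_)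
      rintro _ ⟨x, hx, rfl⟩
      rw [mem_centralizer_singleton_iff]
      have h9 : (x : G) * a * (x : G)⁻¹ = a := hx
      exact mul_inv_eq_iff_eq_mul.1 h9
    rw [← h2, h1, mul_comm]
    exact Nat.mul_le_mul h3 h8
  have h2K : 2 ^ (Nat.card K).factorization 2 * 25 ≤ 24 * 50 := by
    refine le_trans (Nat.le_of_dvd Nat.card_pos ?_) hKcard
    refine Nat.Coprime.mul_dvd_of_dvd_of_dvd ?_ (Nat.ordProj_dvd _ _) h25K
    exact Nat.Coprime.pow_left _ (by norm_num)
  by_contra h6
  push Not at h6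
  have h7 : 2 ^ 6 ≤ 2 ^ (Nat.card K).factorization 2 := Nat.pow_le_pow_right (by norm_num) h6
  omega

end

section

variable {G : Type u} [Group G] [Finite G] {P : Subgroup G}

/-- **Solvable subgroups of order divisible by 13.** -/
theorem bd_thirteen (h : Hyp P) (h13 : ∀ x : G, orderOf x = 13 → Nat.card (centralizer ({x} : Set G)) = 13)
    (M : Subgroup G) (hM : Group.IsSolvable ↥M) (hd : 13 ∣ Nat.card M) : (Nat.card M).factorization 2 ≤ 3 := by
  have hf2 : Fact (Nat.Prime 2) := ⟨Nat.prime_two⟩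
  have hf13 : Fact (Nat.Prime 13) := ⟨by norm_num⟩
  have hnc : ∀ y : G, orderOf y = 13 → ∀ x : G, y * x = x * y → ¬ 2 ∣ orderOf x := by
    intro y hy x hxy h2
    have h1 : x ∈ centralizer ({y} : Set G) := mem_centralizer_singleton_iff.2 hxy.symm
    have h3 : orderOf (⟨x, h1⟩ : ↥(centralizer ({y} : Set G))) ∣ Nat.card ↥(centralizer ({y} : Set G)) :=
      orderOf_dvd_natCard _
    rw [Subgroup.orderOf_mk, h13 y hy] at h3
    have h4 := h2.trans h3
    norm_num at h4
  have hb := bound_part (p := 2) (s := 13) (A := 1) (B := 13) Nat.prime_two (by norm_num : Nat.Prime 13) (by norm_num)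
    (fun x y hx hy hxy => hnc y hy x hxy.symm (by rw [hx])) ?_ ?_ M hM hd
  · rw [one_mul] at hb
    by_contra h6
    push Not at h6
    have h7 : 2 ^ 4 ≤ 2 ^ (Nat.card M).factorization 2 := Nat.pow_le_pow_right (by norm_num) h6
    omega
  · intro y hy U hU hn
    obtain ⟨k, hk⟩ := hU.exists_card_eq
    have hmod := Cfsg.Agent.H740.NFTwF.dvd_of_fpf (by norm_num : Nat.Prime 13) hy hk hn (fun u hu huy => by
      by_contra hu1
      obtain ⟨j, hj⟩ := (IsPGroup.iff_orderOf.1 hU) ⟨u, hu⟩
      rw [Subgroup.orderOf_mk] at hj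
      have hj0 : j ≠ 0 := by
        rintro rfl
        rw [pow_zero, orderOf_eq_one_iff] at hj
        exact hu1 hj
      exact hnc y hy u huy (by rw [hj]; exact dvd_pow_self 2 hj0))
    have hk11 : k ≤ 11 := by
      have h19 : 2 ^ k ∣ 2 ^ 11 * (27 * 25 * 13) := by
        rw [← hk]
        refine (Subgroup.card_subgroup_dvd_card U).trans ?_
        rw [h.card]; norm_num
      have h20 : 2 ^ k ∣ 2 ^ 11 := by
        refine Nat.Coprime.dvd_of_dvd_mul_right ?_ h19
        exact Nat.Coprime.pow_left _ (by norm_num)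
      exact (Nat.pow_dvd_pow_iff_le_right (by norm_num)).1 h20
    have hk0 : k = 0 := by
      unfold Nat.ModEq at hmod
      interval_cases k <;> first | rfl | (exfalso; revert hmod; decide)
    rw [hk, hk0, pow_zero]
  · intro S hS
    obtain ⟨k, hk⟩ := hS.exists_card_eq
    have h1 : 13 ^ k ∣ 13 ^ 1 * (2 ^ 11 * 27 * 25) := by
      rw [← hk]
      refine (Subgroup.card_subgroup_dvd_card S).trans ?_
      rw [h.card]; norm_num
    have h2 : 13 ^ k ∣ 13 ^ 1 := by
      refine Nat.Coprime.dvd_of_dvd_mul_right ?_ h1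
      exact Nat.Coprime.pow_left _ (by norm_num)
    rw [hk]
    exact Nat.le_of_dvd (by norm_num) h2

theorem sep_tits (h : Hyp P) (h13 : ∀ x : G, orderOf x = 13 → Nat.card (centralizer ({x} : Set G)) = 13) :
    Sep G 13 5 := by
  refine H729.NFTool.sep (N := 17971200) 1 2 (by rw [h.card]; norm_num) (by norm_num) (by norm_num) (by decide +kernel) ?_
  exact H729.NFTool.nonAdj_of_not_dvd fun x hx => by rw [h13 x hx]; norm_num

theorem nf0_tits (h : Hyp P) (h13 : ∀ x : G, orderOf x = 13 → Nat.card (centralizer ({x} : Set G)) = 13)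
    (ho : outN G ∣ 2) : NF0 G := by
  have hsep := sep_tits h h13
  have hcard : Nat.card G = 17971200 := by rw [h.card]; norm_num
  have key : ∀ H K : Subgroup G, Group.IsSolvable ↥H → Group.IsSolvable ↥K → 13 ∣ Nat.card H →
      Nat.card G ∣ Nat.card H * Nat.card K * outN G → False := by
    intro H K hH hK hd hdvd
    have h5 : ¬ 5 ∣ Nat.card H := fun h5 => hsep H hH hd h5
    have h25 : 25 ∣ Nat.card K := by
      have h1 : 5 ^ 2 ∣ Nat.card H * Nat.card K * 2 := by
        refine dvd_trans ?_ (hdvd.trans (mul_dvd_mul_left _ ho))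
        rw [hcard]; norm_num
      have h2 : Nat.Coprime (5 ^ 2) 2 := by norm_num
      have h3 := h2.dvd_of_dvd_mul_right h1
      have h4 : Nat.Coprime (5 ^ 2) (Nat.card H) := Nat.Coprime.pow_left _ ((Nat.Prime.coprime_iff_not_dvd (by norm_num)).2 h5)
      exact h4.dvd_of_dvd_mul_left h3
    have hv1 := bd_thirteen h h13 H hH hd
    have hv2 := bd_five h K hK h25
    have hH0 : Nat.card H ≠ 0 := Nat.card_pos.ne'
    have hK0 : Nat.card K ≠ 0 := Nat.card_pos.ne'
    have h6 : (Nat.card G).factorization 2 ≤ (Nat.card H * Nat.card K * 2).factorization 2 :=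
      (Nat.factorization_le_iff_dvd Nat.card_pos.ne' (by positivity)).2 (hdvd.trans (mul_dvd_mul_left _ ho)) 2
    rw [Nat.factorization_mul (by positivity) (by norm_num), Nat.factorization_mul hH0 hK0, Finsupp.add_apply,
      Finsupp.add_apply, Nat.Prime.factorization Nat.prime_two, Finsupp.single_eq_same] at h6
    have h7 : 11 ≤ (Nat.card G).factorization 2 := by
      refine (Nat.prime_two.pow_dvd_iff_le_factorization Nat.card_pos.ne').1 ?_
      rw [hcard]; norm_num
    omega
  intro H K hH hK hdvd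
  rcases dvd_or (r := 13) (by norm_num) (by rw [hcard]; norm_num) (fun h1 => by
    have := h1.trans ho
    norm_num at this) hdvd with h1 | h1
  · exact key H K hH hK h1 hdvd
  · exact key K H hK hH h1 (by rw [mul_comm (Nat.card K)]; exact hdvd)

end

end Cfsg.Agent.H740.NFTits
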