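import Cfsg.Agent.H176.NFBase
import Cfsg.Agent.H728.DghpHall
import Cfsg.Agent.Lib.Cores

/-!
# Tools for the rows Sz, Ree, ²F₄ of S5773 (helper740)

* `nf0_three` : three classes of primes, pairwise separated, none of the three numbers divides `|Out T|`;
* `sep_tori` : two Hall tori are separated;
* `bound_part` : the `p`-part of a solvable subgroup of order divisible by `s`, when no element of order `s` commutes with
  an element of order `p`.
-/

set_option autoImplicit false

namespace Cfsg.Agent.H740.NFTools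

open Cfsg.Agent.H518.Dghp Cfsg.Agent.H176.NF Cfsg.Agent.H728.DghpHall Cfsg.Agent.H728.DghpLem

universe u

section three
variable {T : Type u} [Group T]

/-- **Three pairwise separated classes of primes.** -/
theorem nf0_three {n₁ n₂ n₃ : ℕ}
    (h12 : ∀ r s : ℕ, r.Prime → s.Prime → r ∣ n₁ → s ∣ n₂ → Sep T r s)
    (h13 : ∀ r s : ℕ, r.Prime → s.Prime → r ∣ n₁ → s ∣ n₃ → Sep T r s)
    (h23 : ∀ r s : ℕ, r.Prime → s.Prime → r ∣ n₂ → s ∣ n₃ → Sep T r s)
    (d₁ : n₁ ∣ Nat.card T) (d₂ : n₂ ∣ Nat.card T) (d₃ : n₃ ∣ Nat.card T)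
    (o₁ : ¬ n₁ ∣ outN T) (o₂ : ¬ n₂ ∣ outN T) (o₃ : ¬ n₃ ∣ outN T) : NF0 T := by
  intro H K hH hK h
  have key : ∀ n : ℕ, n ∣ Nat.card T → ¬ n ∣ outN T →
      (∃ r : ℕ, r.Prime ∧ r ∣ n ∧ r ∣ Nat.card H) ∨ (∃ r : ℕ, r.Prime ∧ r ∣ n ∧ r ∣ Nat.card K) := by
    intro n hn ho
    by_contra hcon
    push Not at hcon
    apply ho
    have c1 : n.Coprime (Nat.card H) := Nat.coprime_of_dvd fun p hp h1 h2 => hcon.1 p hp h1 h2
    have c2 : n.Coprime (Nat.card K) := Nat.coprime_of_dvd fun p hp h1 h2 => hcon.2 p hp h1 h2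
    have h3 : n ∣ Nat.card H * Nat.card K * outN T := hn.trans h
    exact (Nat.Coprime.mul_right c1 c2).dvd_of_dvd_mul_left h3
  rcases key n₁ d₁ o₁ with ⟨r, hr, hr1, hr2⟩ | ⟨r, hr, hr1, hr2⟩ <;>
    rcases key n₂ d₂ o₂ with ⟨s, hs, hs1, hs2⟩ | ⟨s, hs, hs1, hs2⟩ <;>
    rcases key n₃ d₃ o₃ with ⟨t, ht, ht1, ht2⟩ | ⟨t, ht, ht1, ht2⟩
  · exact h12 r s hr hs hr1 hs1 _ hH hr2 hs2
  · exact h12 r s hr hs hr1 hs1 _ hH hr2 hs2
  · exact h13 r t hr ht hr1 ht1 _ hH hr2 ht2
  · exact h23 s t hs ht hs1 ht1 _ hK hs2 ht2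
  · exact h23 s t hs ht hs1 ht1 _ hH hs2 ht2
  · exact h13 r t hr ht hr1 ht1 _ hK hr2 ht2
  · exact h12 r s hr hs hr1 hs1 _ hK hr2 hs2
  · exact h12 r s hr hs hr1 hs1 _ hK hr2 hs2

variable [Finite T]

/-- separation from pairs of elements -/
theorem sep_of_pairs {r s : ℕ} (hr : r.Prime) (hs : s.Prime)
    (h : ∀ x y : T, orderOf x = r → orderOf y = s → ¬ Group.IsSolvable ↥(Subgroup.closure ({x, y} : Set T))) :
    Sep T r s := by
  intro K hK hrK hsK
  have : Fact r.Prime := ⟨hr⟩
  have : Fact s.Prime := ⟨hs⟩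
  obtain ⟨x, hx⟩ := exists_prime_orderOf_dvd_card' r hrK
  obtain ⟨y, hy⟩ := exists_prime_orderOf_dvd_card' s hsK
  refine h x y (by rw [Subgroup.orderOf_coe, hx]) (by rw [Subgroup.orderOf_coe, hy]) ?_
  exact isSolvable_of_le ((Subgroup.closure_le K).2 (by rintro z (rfl | rfl) <;> exact Subtype.mem _)) hK

/-- **Two Hall tori are separated.** -/
theorem sep_tori {A B : Subgroup T} {r s : ℕ} (hr : r.Prime) (hs : s.Prime)
    (hA : ∀ A₀ : Subgroup T, A₀ ≤ A → A₀ ≠ ⊥ → Subgroup.normalizer (A₀ : Set T) ≤ Subgroup.normalizer (A : Set T))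
    (hB : ∀ A₀ : Subgroup T, A₀ ≤ B → A₀ ≠ ⊥ → Subgroup.normalizer (A₀ : Set T) ≤ Subgroup.normalizer (B : Set T))
    (hri : ¬ r ∣ A.index) (hsi : ¬ s ∣ B.index) (hsN : ¬ s ∣ Nat.card ↥(Subgroup.normalizer (A : Set T)))
    (hrN : ¬ r ∣ Nat.card ↥(Subgroup.normalizer (B : Set T))) : Sep T r s := by
  apply sep_of_pairs hr hs
  intro x y hx hy
  refine not_solvable_of_norm (a := 1) (b := 1) hr hs one_pos (fun P hP y' hy' => ?_) (fun P hP x' hx' => ?_) x y
    (by rw [hx, pow_one]) (by rw [hy, pow_one])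
  · rw [pow_one] at hy'
    exact no_norm hr hA hri hsN P hP y' hy'
  · rw [pow_one] at hx'
    exact no_norm hs hB hsi hrN P hP x' hx'

end three

section bound

open Cfsg

theorem relIndex_ker_comap {X : Type*} [Group X] {Y : Type*} [Group Y] (f : X →* Y) (hf : Function.Surjective f)
    (N : Subgroup Y) : f.ker.relIndex (N.comap f) = Nat.card N := by
  rw [← MonoidHom.comap_bot, Subgroup.relIndex_comap, Subgroup.map_comap_eq_self_of_surjective hf,
    Subgroup.relIndex_bot_left]

/-- The bound, for a solvable group whose order is divisible by two primes only. -/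
theorem bound_group {X : Type u} [Group X] [Finite X] (hX : Group.IsSolvable X) {p s A B : ℕ} (hp : p.Prime)
    (hs : s.Prime) (hps : p ≠ s) (hprimes : ∀ q : ℕ, q.Prime → q ∣ Nat.card X → q = p ∨ q = s)
    (hsX : s ∣ Nat.card X) (h1 : ∀ x y : X, orderOf x = p → orderOf y = s → x * y ≠ y * x)
    (h2 : ∀ U : Subgroup X, U.Normal → IsPGroup p ↥U → Nat.card U ≤ A)
    (h3 : ∀ S : Subgroup X, IsPGroup s ↥S → Nat.card S ≤ B) :
    p ^ (Nat.card X).factorization p ≤ A * B := by
  classical
  have hfp : Fact p.Prime := ⟨hp⟩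
  have hfs : Fact s.Prime := ⟨hs⟩
  set U := pCore p X with hU
  have hUn : U.Normal := Lib.Cores.pCore_normal p
  have hUp : IsPGroup p ↥U := Lib.Cores.pCore_isPGroup p
  have hcardU : Nat.card X = Nat.card U * U.index := U.card_mul_index.symm
  have hsU : ¬ s ∣ Nat.card U := by
    obtain ⟨k, hk⟩ := hUp.exists_card_eq
    rw [hk]
    intro h
    exact hps ((Nat.prime_dvd_prime_iff_eq hs hp).1 (hs.dvd_of_dvd_pow h)).symm
  have hQ : Nontrivial (X ⧸ U) := by
    rw [← Finite.one_lt_card_iff_nontrivial]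
    have h4 : s ∣ U.index := by
      rw [hcardU] at hsX
      exact ((hs.dvd_mul).1 hsX).resolve_left hsU
    exact lt_of_lt_of_le hs.one_lt (Nat.le_of_dvd Nat.card_pos h4)
  have hQs : Group.IsSolvable (X ⧸ U) := Group.isSolvable_of_surjective (QuotientGroup.mk'_surjective U)
  obtain ⟨q, hq, N, hNn, hN1, hNab, hNq⟩ := Cfsg.Agent.Solvable.SZ.exists_normal_elemAb (X ⧸ U) hQs
  have hfq : Fact q.Prime := ⟨hq⟩
  have hNg : IsPGroup q ↥N := fun x => ⟨1, by rw [pow_one]; exact Subtype.ext (hNq x x.2)⟩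
  have hqX : q ∣ Nat.card X := by
    obtain ⟨u, hu, hu1⟩ : ∃ u ∈ N, u ≠ 1 := by
      by_contra h
      push Not at h
      exact hN1 ((Subgroup.eq_bot_iff_forall N).2 h)
    have h5 : orderOf u = q := orderOf_eq_prime (hNq u hu) hu1
    rw [← h5]
    exact (orderOf_dvd_natCard u).trans (Subgroup.card_quotient_dvd_card U)
  have hqs : q = s := by
    rcases hprimes q hq hqX with h | h
    · exfalso
      subst h
      have h6 : N ≤ pCore q (X ⧸ U) := Lib.Cores.le_pCore hNn hNg
      have h7 : pCore q (X ⧸ U) = ⊥ := Lib.Cores.pCore_quotient_pCore q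
      rw [h7] at h6
      exact hN1 (le_bot_iff.1 h6)
    · exact h
  subst hqs
  set R := N.comap (QuotientGroup.mk' U) with hR
  have hRn : R.Normal := hNn.comap _
  have hUR : U ≤ R := by
    intro x hx
    rw [hR, Subgroup.mem_comap, QuotientGroup.mk'_apply, (QuotientGroup.eq_one_iff x).2 hx]
    exact N.one_mem
  -- the Sylow subgroup
  obtain ⟨S₁⟩ : Nonempty (Sylow q ↥R) := inferInstance
  set S : Subgroup X := (S₁ : Subgroup ↥R).map R.subtype with hS
  have hSg : IsPGroup q ↥S := S₁.2.map _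
  have hfrat : Subgroup.normalizer (S : Set X) ⊔ R = ⊤ := Sylow.normalizer_sup_eq_top S₁
  have hSR : S ≤ R := Subgroup.map_subtype_le _
  -- `R = U ⊔ S`
  have hRUS : R ≤ Subgroup.normalizer (S : Set X) ⊔ U := by
    have h7 : R ≤ S ⊔ U := by
      rw [← Subgroup.relIndex_eq_one]
      have h8 : (S ⊔ U).relIndex R ∣ Nat.card N := by
        have h9 : U.relIndex R = Nat.card N := by
          have h10 := relIndex_ker_comap (QuotientGroup.mk' U) (QuotientGroup.mk'_surjective U) N
          rwa [QuotientGroup.ker_mk'] at h10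
        rw [← h9]
        exact Subgroup.relIndex_dvd_of_le_left R le_sup_right
      have h11 : (S ⊔ U).relIndex R ∣ (S₁ : Subgroup ↥R).index := by
        have h12 : S.relIndex R = (S₁ : Subgroup ↥R).index := by
          rw [Subgroup.relIndex, hS, Subgroup.subgroupOf, Subgroup.comap_map_eq_self_of_injective R.subtype_injective]
        rw [← h12]
        exact Subgroup.relIndex_dvd_of_le_left R le_sup_left
      have h13 : ¬ q ∣ (S₁ : Subgroup ↥R).index := S₁.not_dvd_index
      obtain ⟨k, hk⟩ := hNg.exists_card_eq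
      have h14 : (Nat.card N).Coprime (S₁ : Subgroup ↥R).index := by
        rw [hk]
        exact Nat.Coprime.pow_left _ ((Nat.Prime.coprime_iff_not_dvd hq).2 h13)
      exact Nat.eq_one_of_dvd_coprimes h14 h8 h11
    exact h7.trans (sup_le_sup_right Subgroup.le_normalizer U)
  have htop : Subgroup.normalizer (S : Set X) ⊔ U = ⊤ := by
    rw [eq_top_iff, ← hfrat]
    exact sup_le le_sup_left hRUS
  -- the order of `X`
  have hidx : U.index ∣ Nat.card ↥(Subgroup.normalizer (S : Set X)) := by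
    have h15 : U.index = U.relIndex (Subgroup.normalizer (S : Set X) ⊔ U) := by
      rw [htop, Subgroup.relIndex_top_right]
    rw [h15, Subgroup.relIndex_sup_right]
    exact Subgroup.relIndex_dvd_card _ _
  obtain ⟨P₁⟩ : Nonempty (Sylow p ↥(Subgroup.normalizer (S : Set X))) := inferInstance
  have hN0 : Nat.card ↥(Subgroup.normalizer (S : Set X)) ≠ 0 := Nat.card_pos.ne'
  have hP₁ : Nat.card P₁ = p ^ (Nat.card ↥(Subgroup.normalizer (S : Set X))).factorization p := P₁.card_eq_multiplicity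
  have hS1 : S ≠ ⊥ := by
    intro hb
    have h16 : q ∣ Nat.card ↥R := by
      have h17 : Nat.card N ∣ Nat.card R := by
        have h18 : N = R.map (QuotientGroup.mk' U) := by
          rw [hR, Subgroup.map_comap_eq_self_of_surjective (QuotientGroup.mk'_surjective U)]
        rw [h18]
        exact Subgroup.card_map_dvd _ _
      obtain ⟨k, hk⟩ := hNg.exists_card_eq
      have hk0 : k ≠ 0 := by
        rintro rfl
        rw [pow_zero] at hk
        exact hN1 (Subgroup.card_eq_one.1 hk)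
      exact (dvd_pow_self q hk0).trans (hk ▸ h17)
    have h19 : (S₁ : Subgroup ↥R) = ⊥ := (Subgroup.map_eq_bot_iff_of_injective _ R.subtype_injective).1 hb
    have h20 := S₁.not_dvd_index
    rw [h19, Subgroup.index_bot] at h20
    exact h20 h16
  have hleS : Nat.card P₁ ≤ Nat.card S := by
    obtain ⟨z, hz, hzq⟩ : ∃ z ∈ S, orderOf z = q := by
      have : Nontrivial ↥S := (Subgroup.nontrivial_iff_ne_bot S).2 hS1
      obtain ⟨k, hk⟩ := hSg.exists_card_eq
      have hk0 : k ≠ 0 := by
        rintro rfl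
        rw [pow_zero] at hk
        exact hS1 (Subgroup.card_eq_one.1 hk)
      obtain ⟨z, hz⟩ := exists_prime_orderOf_dvd_card' q (G := ↥S) (by rw [hk]; exact dvd_pow_self q hk0)
      exact ⟨z, z.2, by rw [Subgroup.orderOf_coe, hz]⟩
    refine Nat.card_le_card_of_injective
      (fun g : P₁ => (⟨((g : ↥(Subgroup.normalizer (S : Set X))) : X) * z *
        ((g : ↥(Subgroup.normalizer (S : Set X))) : X)⁻¹,
        (Subgroup.mem_normalizer_iff.1 (g : ↥(Subgroup.normalizer (S : Set X))).2 z).1 hz⟩ : ↥S)) ?_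
    intro g h hgh
    have h21 : ((g : ↥(Subgroup.normalizer (S : Set X))) : X) * z * ((g : ↥(Subgroup.normalizer (S : Set X))) : X)⁻¹ =
      ((h : ↥(Subgroup.normalizer (S : Set X))) : X) * z * ((h : ↥(Subgroup.normalizer (S : Set X))) : X)⁻¹ :=
      congrArg Subtype.val hgh
    by_contra hne
    set k := h⁻¹ * g with hk
    have hk1 : k ≠ 1 := by
      intro h22
      apply hne
      rw [hk, inv_mul_eq_one] at h22
      exact h22.symm
    have hkz : ((k : ↥(Subgroup.normalizer (S : Set X))) : X) * z = z * ((k : ↥(Subgroup.normalizer (S : Set X))) : X) := by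
      have h23 : ((k : ↥(Subgroup.normalizer (S : Set X))) : X) =
        ((h : ↥(Subgroup.normalizer (S : Set X))) : X)⁻¹ * ((g : ↥(Subgroup.normalizer (S : Set X))) : X) := rfl
      rw [h23]
      have h24 : ((h : ↥(Subgroup.normalizer (S : Set X))) : X)⁻¹ * (((g : ↥(Subgroup.normalizer (S : Set X))) : X) * z *
        ((g : ↥(Subgroup.normalizer (S : Set X))) : X)⁻¹) * ((g : ↥(Subgroup.normalizer (S : Set X))) : X) =
        ((h : ↥(Subgroup.normalizer (S : Set X))) : X)⁻¹ * (((h : ↥(Subgroup.normalizer (S : Set X))) : X) * z *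
        ((h : ↥(Subgroup.normalizer (S : Set X))) : X)⁻¹) * ((g : ↥(Subgroup.normalizer (S : Set X))) : X) := by rw [h21]
      calc _ = ((h : ↥(Subgroup.normalizer (S : Set X))) : X)⁻¹ * (((g : ↥(Subgroup.normalizer (S : Set X))) : X) * z *
        ((g : ↥(Subgroup.normalizer (S : Set X))) : X)⁻¹) * ((g : ↥(Subgroup.normalizer (S : Set X))) : X) := by group
        _ = _ := h24
        _ = _ := by group
    -- an element of order `p` in the powers of `k`
    obtain ⟨j, hj⟩ := (IsPGroup.iff_orderOf.1 P₁.2) k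
    have hj0 : j ≠ 0 := by
      rintro rfl
      rw [pow_zero, orderOf_eq_one_iff] at hj
      exact hk1 hj
    have hko : orderOf ((k : ↥(Subgroup.normalizer (S : Set X))) : X) = p ^ j := by
      rw [Subgroup.orderOf_coe, Subgroup.orderOf_coe, hj]
    obtain ⟨w, hw⟩ := exists_prime_orderOf_dvd_card' p
      (G := ↥(Subgroup.zpowers ((k : ↥(Subgroup.normalizer (S : Set X))) : X))) (by
        rw [Nat.card_zpowers, hko]
        exact dvd_pow_self p hj0)
    refine h1 (w : X) z (by rw [Subgroup.orderOf_coe, hw]) hzq ?_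
    obtain ⟨i, hi⟩ := w.2
    have h25 : ((k : ↥(Subgroup.normalizer (S : Set X))) : X) ^ i = (w : X) := hi
    rw [← h25]
    exact (Commute.zpow_left hkz i)
  calc p ^ (Nat.card X).factorization p
      ≤ p ^ ((Nat.card U).factorization p + (Nat.card ↥(Subgroup.normalizer (S : Set X))).factorization p) := by
        apply Nat.pow_le_pow_right hp.pos
        rw [hcardU, Nat.factorization_mul Nat.card_pos.ne' Subgroup.index_ne_zero_of_finite, Finsupp.add_apply]
        exact Nat.add_le_add_left ((Nat.factorization_le_iff_dvd Subgroup.index_ne_zero_of_finite hN0).2 hidx p) _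
    _ = p ^ (Nat.card U).factorization p * Nat.card P₁ := by rw [pow_add, hP₁]
    _ ≤ Nat.card U * Nat.card S := Nat.mul_le_mul (Nat.le_of_dvd Nat.card_pos (Nat.ordProj_dvd _ _)) hleS
    _ ≤ A * B := Nat.mul_le_mul (h2 U hUn hUp) (h3 S hSg)

/-- **The `p`-part of a solvable subgroup of order divisible by `s`.** -/
theorem bound_part {G : Type u} [Group G] [Finite G] {p s A B : ℕ} (hp : p.Prime) (hs : s.Prime) (hps : p ≠ s)
    (h1 : ∀ x y : G, orderOf x = p → orderOf y = s → x * y ≠ y * x)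
    (h2 : ∀ y : G, orderOf y = s → ∀ U : Subgroup G, IsPGroup p ↥U → y ∈ Subgroup.normalizer (U : Set G) →
      Nat.card U ≤ A)
    (h3 : ∀ S : Subgroup G, IsPGroup s ↥S → Nat.card S ≤ B)
    (M : Subgroup G) (hM : Group.IsSolvable ↥M) (hsM : s ∣ Nat.card M) :
    p ^ (Nat.card M).factorization p ≤ A * B := by
  classical
  have hfp : Fact p.Prime := ⟨hp⟩
  have hfs : Fact s.Prime := ⟨hs⟩
  obtain ⟨K, hKM, hK1, hK2⟩ := Cfsg.Agent.OddOrderLocal.HallPi.exists_isPiHallOf hM ({p, s} : Set ℕ)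
  have hKs : Group.IsSolvable ↥K := isSolvable_of_le hKM hM
  have hmul : Nat.card K * K.relIndex M = Nat.card M := by
    have h := Subgroup.relIndex_mul_relIndex (⊥ : Subgroup G) K M bot_le hKM
    rwa [Subgroup.relIndex_bot_left, Subgroup.relIndex_bot_left] at h
  have hidx0 : K.relIndex M ≠ 0 := by
    intro h
    rw [h, mul_zero] at hmul
    exact Nat.card_pos.ne hmul
  have hpi : ¬ p ∣ K.relIndex M := hK2 p hp (by simp)
  have hsi : ¬ s ∣ K.relIndex M := hK2 s hs (by simp)
  have hsK : s ∣ Nat.card K := by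
    rw [← hmul] at hsM
    exact ((hs.dvd_mul).1 hsM).resolve_right hsi
  have hfac : (Nat.card M).factorization p = (Nat.card K).factorization p := by
    rw [← hmul, Nat.factorization_mul Nat.card_pos.ne' hidx0, Finsupp.add_apply,
      Nat.factorization_eq_zero_of_not_dvd hpi, add_zero]
  rw [hfac]
  obtain ⟨y, hy⟩ := exists_prime_orderOf_dvd_card' s hsK
  refine bound_group hKs hp hs hps (fun q hq hqd => by simpa using hK1 q hq hqd) hsK ?_ ?_ ?_
  · intro x y hx hy e
    exact h1 (x : G) y (by rw [Subgroup.orderOf_coe, hx]) (by rw [Subgroup.orderOf_coe, hy]) (congrArg Subtype.val e)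
  · intro U hUn hUp
    have h4 := h2 (y : G) (by rw [Subgroup.orderOf_coe, hy]) (U.map K.subtype) (hUp.map _) ?_
    · rwa [Subgroup.card_map_of_injective K.subtype_injective] at h4
    · rw [Subgroup.mem_normalizer_iff]
      intro g
      constructor
      · rintro ⟨u, hu, rfl⟩
        exact ⟨y * u * y⁻¹, hUn.conj_mem u hu _, rfl⟩
      · rintro ⟨u, hu, h⟩
        refine ⟨y⁻¹ * u * y, ?_, ?_⟩
        · have h5 := hUn.conj_mem u hu y⁻¹
          rwa [inv_inv] at h5
        · show (y : G)⁻¹ * (u : G) * y = g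
          have h6 : (u : G) = y * g * (y : G)⁻¹ := h
          rw [h6]
          group
  · intro S hS
    have h4 := h3 (S.map K.subtype) (hS.map _)
    rwa [Subgroup.card_map_of_injective K.subtype_injective] at h4

end bound

end Cfsg.Agent.H740.NFTools
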