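import Cfsg.Agent.H740.NFSz
import Cfsg.Agent.H728.DghpTwB
import Cfsg.Agent.KFacts.TwF4.Full
import Cfsg.Agent.S1072
import Cfsg.Agent.S1035
import Cfsg.Agent.S2128
import Cfsg.Agent.S2369

/-!
# S5773: the row of the large Ree groups (helper740)
-/

set_option autoImplicit false

namespace Cfsg.Agent.H740.NFTwF

open Cfsg Cfsg.Lie
open Cfsg.Agent.ChevalleyStructure.TwF4.Groups Cfsg.Agent.ChevalleyStructure.TwF4.RankOne
open Cfsg.Agent.ChevalleyStructure.TwF4.Twisted Cfsg.Agent.ChevalleyStructure.TwF4.TwistedFix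
open Cfsg.Agent.ChevalleyStructure.TwF4.BN Cfsg.Agent.Schreier.TwFFour
open Cfsg.Agent.H518.Dghp Cfsg.Agent.H176.NF Cfsg.Agent.H740.NFTools Cfsg.Agent.H740.NFSz

universe u

section fpf

/-- a `p`-group normalised by an element of order `r` without fixed points -/
theorem dvd_of_fpf {G : Type u} [Group G] [Finite G] {r n : ℕ} (hr : r.Prime) {x : G} (hx : orderOf x = r)
    {U : Subgroup G} (hU : Nat.card U = n) (hn : x ∈ Subgroup.normalizer (U : Set G))
    (hfix : ∀ u ∈ U, x * u = u * x → u = 1) : n ≡ 1 [MOD r] := by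
  classical
  have : Fact r.Prime := ⟨hr⟩
  have hle : Subgroup.zpowers x ≤ Subgroup.normalizer (U : Set G) := by rwa [Subgroup.zpowers_le]
  let act : MulAction ↥(Subgroup.zpowers x) ↥U :=
    { smul := fun g u => ⟨(g : G) * u * (g : G)⁻¹, (Subgroup.mem_normalizer_iff.1 (hle g.2) u).1 u.2⟩
      one_smul := fun u => Subtype.ext (by
        show ((1 : ↥(Subgroup.zpowers x)) : G) * (u : G) * ((1 : ↥(Subgroup.zpowers x)) : G)⁻¹ = u
        simp)
      mul_smul := fun g h u => Subtype.ext (by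
        show ((g * h : ↥(Subgroup.zpowers x)) : G) * (u : G) * ((g * h : ↥(Subgroup.zpowers x)) : G)⁻¹ =
          (g : G) * ((h : G) * u * (h : G)⁻¹) * (g : G)⁻¹
        rw [Subgroup.coe_mul]
        group) }
  have hp : IsPGroup r ↥(Subgroup.zpowers x) := IsPGroup.of_card (n := 1) (by rw [Nat.card_zpowers, hx, pow_one])
  have h1 := hp.card_modEq_card_fixedPoints ↥U
  have h2 : Nat.card (MulAction.fixedPoints ↥(Subgroup.zpowers x) ↥U) = 1 := by
    rw [Nat.card_eq_one_iff_unique]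
    refine ⟨⟨fun a b => ?_⟩, ⟨⟨1, fun g => ?_⟩⟩⟩
    · have key : ∀ c : MulAction.fixedPoints ↥(Subgroup.zpowers x) ↥U, (c : ↥U) = 1 := by
        intro c
        have h3 := c.2 ⟨x, Subgroup.mem_zpowers x⟩
        have h4 : x * ((c : ↥U) : G) * x⁻¹ = ((c : ↥U) : G) := congrArg Subtype.val h3
        apply Subtype.ext
        exact hfix _ (c : ↥U).2 (mul_inv_eq_iff_eq_mul.1 h4)
      exact Subtype.ext ((key a).trans (key b).symm)
    · apply Subtype.ext
      show (g : G) * ((1 : ↥U) : G) * (g : G)⁻¹ = ((1 : ↥U) : G)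
      simp
  rw [h2, hU] at h1
  exact h1

end fpf

variable {K : Type} [Field K] [Fintype K] {m : ℕ}

/-- prime divisors of the Borel subgroup -/
theorem prime_borel [CharP K 2] (hK : Fintype.card K = 2 ^ (2 * m + 1)) {y : ↥(twistedF4 K (2 ^ m))} (hy : y ∈ B0 K (2 ^ m))
    {s : ℕ} (hs : s.Prime) (hs2 : s ≠ 2) (hys : orderOf y = s) : s ∣ Fintype.card K - 1 := by
  have hfin : Finite ↥(twistedF4 K (2 ^ m)) := inferInstance
  have hb : (y : GL chevF4.Idx K) ∈ chevF4.borelSubgroup K := hy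
  obtain ⟨u, hu, h, hh, hyu⟩ := (mem_borel_iff hHX _).1 hb
  -- powers
  have hpow : ∀ n : ℕ, ∃ v ∈ GA K posB, (y : GL chevF4.Idx K) ^ n = v * h ^ n := by
    intro n
    induction n with
    | zero => exact ⟨1, one_mem _, by simp⟩
    | succ n ih =>
      obtain ⟨v, hv, e⟩ := ih
      refine ⟨v * (h ^ n * u * (h ^ n)⁻¹), mul_mem hv (H_norm_GA hHX posB _ (pow_mem hh n) u hu), ?_⟩
      rw [pow_succ, e, hyu, pow_succ]
      group
  have hcH := S1035.result (F := K) rfl (chevF4, 1) (by simp)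
  rw [one_mul] at hcH
  have hh1 : h ^ Nat.card (chevF4.diagonalSubgroup K) = 1 := by
    have h2 : (⟨h, hh⟩ : ↥(chevF4.diagonalSubgroup K)) ^ Nat.card (chevF4.diagonalSubgroup K) = 1 := pow_card_eq_one'
    exact congrArg Subtype.val h2
  obtain ⟨v, hv, e⟩ := hpow (Nat.card (chevF4.diagonalSubgroup K))
  rw [hh1, mul_one] at e
  -- `y ^ n ∈ U0`
  have hU : y ^ Nat.card (chevF4.diagonalSubgroup K) ∈ U0 K (2 ^ m) := by
    show ((y ^ Nat.card (chevF4.diagonalSubgroup K) : ↥(twistedF4 K (2 ^ m))) : GL chevF4.Idx K) ∈ GA K posB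
    rw [Subgroup.coe_pow, e]
    exact hv
  obtain ⟨k, hk⟩ := (IsPGroup.iff_orderOf.1 (isPGroup_U0 hK)) ⟨_, hU⟩
  rw [Subgroup.orderOf_mk] at hk
  have h3 : orderOf (y ^ Nat.card (chevF4.diagonalSubgroup K)) ∣ s := by
    rw [← hys]
    exact orderOf_pow_dvd _
  rw [hk] at h3
  have h4 : 2 ^ k = 1 := by
    rcases (Nat.dvd_prime hs).1 h3 with h5 | h5
    · exact h5
    · exfalso
      have h6 : k ≠ 0 := by
        rintro rfl
        rw [pow_zero] at h5
        exact hs.one_lt.ne h5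
      have h7 : 2 ∣ s := h5 ▸ dvd_pow_self 2 h6
      exact hs2 ((Nat.prime_dvd_prime_iff_eq Nat.prime_two hs).1 h7).symm
  rw [h4, orderOf_eq_one_iff] at hk
  have h8 : s ∣ Nat.card (chevF4.diagonalSubgroup K) := by
    rw [← hys]
    exact orderOf_dvd_of_pow_eq_one hk
  simp only at hcH
  rw [hcH] at h8
  exact hs.dvd_of_dvd_pow h8

theorem card_U0 (hK : Fintype.card K = 2 ^ (2 * m + 1)) [CharP K 2] : Nat.card (U0 K (2 ^ m)) = 2 ^ (12 * (2 * m + 1)) := by
  rw [mul_comm, pow_mul, ← Cfsg.Agent.S1090.result hK]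
  have h2 : (U0 K (2 ^ m)).map (twistedF4 K (2 ^ m)).subtype = chevF4.posUnipotent K ⊓ twistedF4 K (2 ^ m) := by
    rw [U0, Subgroup.subgroupOf_map_subtype, posUnipotent_eq]
  rw [← h2]
  exact Nat.card_congr ((U0 K (2 ^ m)).equivMapOfInjective _ (Subgroup.subtype_injective _)).toEquiv

/-- a Sylow 2-subgroup is not normalised by an element of prime order not dividing `2 (q - 1)` -/
theorem not_norm_sylow (hK : Fintype.card K = 2 ^ (2 * m + 1))
    (hfac : (Nat.card ↥(twistedF4 K (2 ^ m))).factorization 2 = 12 * (2 * m + 1))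
    {U : Subgroup ↥(twistedF4 K (2 ^ m))} (hU : Nat.card U = 2 ^ (12 * (2 * m + 1))) {y : ↥(twistedF4 K (2 ^ m))}
    {s : ℕ} (hs : s.Prime) (hs2 : s ≠ 2) (hys : orderOf y = s) (hn : y ∈ Subgroup.normalizer (U : Set ↥(twistedF4 K (2 ^ m)))) :
    s ∣ Fintype.card K - 1 := by
  have : CharP K 2 := charP_two hK
  have : Fact (Nat.Prime 2) := ⟨Nat.prime_two⟩
  have hfin : Finite ↥(twistedF4 K (2 ^ m)) := inferInstance
  obtain ⟨φ, hφ⟩ := exists_rln hK
  let P₁ : Sylow 2 ↥(twistedF4 K (2 ^ m)) := Sylow.ofCard U (by rw [hU, hfac])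
  let P₂ : Sylow 2 ↥(twistedF4 K (2 ^ m)) := Sylow.ofCard (U0 K (2 ^ m)) (by rw [card_U0 hK, hfac])
  obtain ⟨g, hg⟩ := MulAction.exists_smul_eq ↥(twistedF4 K (2 ^ m)) P₁ P₂
  have hg' : U.map (MulAut.conj g).toMonoidHom = U0 K (2 ^ m) := by
    have h1 := congrArg (fun P : Sylow 2 ↥(twistedF4 K (2 ^ m)) => (P : Subgroup ↥(twistedF4 K (2 ^ m)))) hg
    exact h1
  have h2 : g * y * g⁻¹ ∈ Subgroup.normalizer (U0 K (2 ^ m) : Set ↥(twistedF4 K (2 ^ m))) := by
    rw [← hg', Subgroup.mem_normalizer_iff]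
    intro x
    have hmem : ∀ z : ↥(twistedF4 K (2 ^ m)), z ∈ U.map (MulAut.conj g).toMonoidHom ↔ g⁻¹ * z * g ∈ U := by
      intro z
      constructor
      · rintro ⟨w, hw, rfl⟩
        have : g⁻¹ * ((MulAut.conj g).toMonoidHom w) * g = w := by
          show g⁻¹ * (g * w * g⁻¹) * g = w
          group
        rw [this]
        exact hw
      · intro hz
        refine ⟨_, hz, ?_⟩
        show g * (g⁻¹ * z * g) * g⁻¹ = z
        group
    rw [hmem, hmem, Subgroup.mem_normalizer_iff.1 hn (g⁻¹ * x * g)]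
    have e : g⁻¹ * (g * y * g⁻¹ * x * (g * y * g⁻¹)⁻¹) * g = y * (g⁻¹ * x * g) * y⁻¹ := by group
    rw [e]
  rw [Cfsg.Agent.KFacts.TwF4.Inst.U0_normal_B hφ] at h2
  refine prime_borel hK h2 hs hs2 ?_
  rw [← hys]
  exact orderOf_injective (MulAut.conj g).toMonoidHom (MulAut.conj g).injective y

/-- `2`-subgroups normalised by an element of order `r`, `ord_r(2) = e` -/
theorem card_of_norm (hm : 1 ≤ m) (hK : Fintype.card K = 2 ^ (2 * m + 1))
    (hfac : (Nat.card ↥(twistedF4 K (2 ^ m))).factorization 2 = 12 * (2 * m + 1)) {r e : ℕ} (hr : r.Prime) (hr2 : r ≠ 2)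
    (he : ∀ k : ℕ, r ∣ 2 ^ k - 1 ↔ e ∣ k) (h1 : ¬ r ∣ (2 ^ (2 * m + 1)) ^ 4 - 1) {y : ↥(twistedF4 K (2 ^ m))}
    (hy : orderOf y = r) {U : Subgroup ↥(twistedF4 K (2 ^ m))} (hU : IsPGroup 2 ↥U)
    (hn : y ∈ Subgroup.normalizer (U : Set ↥(twistedF4 K (2 ^ m)))) :
    ∃ k, Nat.card U = 2 ^ k ∧ e ∣ k ∧ k < 12 * (2 * m + 1) := by
  have : Fact (Nat.Prime 2) := ⟨Nat.prime_two⟩
  have hfin : Finite ↥(twistedF4 K (2 ^ m)) := by
    have : CharP K 2 := charP_two hK
    infer_instance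
  obtain ⟨k, hk⟩ := hU.exists_card_eq
  -- no involution commutes with `y`
  have hno : ∀ a : ↥(twistedF4 K (2 ^ m)), orderOf a = 2 → y * a ≠ a * y := by
    intro a ha hay
    have h2 := S2369.result m hm hK a y ha hay.symm
    have h3 : r ∈ (orderOf y).primeFactors := by
      rw [hy, Nat.mem_primeFactors]
      exact ⟨hr, dvd_rfl, hr.ne_zero⟩
    have h4 := Nat.dvd_of_mem_primeFactors (h2 h3)
    rcases hr.dvd_mul.1 h4 with h5 | h5
    · exact hr2 ((Nat.prime_dvd_prime_iff_eq hr Nat.prime_two).1 (hr.dvd_of_dvd_pow h5))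
    · exact h1 h5
  have hfix : ∀ u ∈ U, y * u = u * y → u = 1 := by
    intro u hu huy
    by_contra hu1
    obtain ⟨j, hj⟩ := (IsPGroup.iff_orderOf.1 hU) ⟨u, hu⟩
    rw [Subgroup.orderOf_mk] at hj
    have hj0 : j ≠ 0 := by
      rintro rfl
      rw [pow_zero, orderOf_eq_one_iff] at hj
      exact hu1 hj
    obtain ⟨w, hw⟩ := exists_prime_orderOf_dvd_card' 2 (G := ↥(Subgroup.zpowers u)) (by
      rw [Nat.card_zpowers, hj]
      exact dvd_pow_self 2 hj0)
    refine hno (w : ↥(twistedF4 K (2 ^ m))) (by rw [Subgroup.orderOf_coe, hw]) ?_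
    obtain ⟨i, hi⟩ := w.2
    have h25 : u ^ i = (w : ↥(twistedF4 K (2 ^ m))) := hi
    rw [← h25]
    exact (Commute.zpow_right (show Commute y u from huy) i)
  have hmod := dvd_of_fpf hr hy hk hn hfix
  have hdvd : r ∣ 2 ^ k - 1 := (Nat.modEq_iff_dvd' Nat.one_le_two_pow).1 hmod.symm
  refine ⟨k, hk, (he k).1 hdvd, ?_⟩
  have hkle : k ≤ 12 * (2 * m + 1) := by
    have h6 : 2 ^ k ∣ Nat.card ↥(twistedF4 K (2 ^ m)) := hk ▸ Subgroup.card_subgroup_dvd_card U
    rw [← hfac]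
    exact (Nat.prime_two.pow_dvd_iff_le_factorization Nat.card_pos.ne').1 h6
  refine lt_of_le_of_ne hkle ?_
  rintro rfl
  have h7 := not_norm_sylow hK hfac hk hr hr2 hy hn
  apply h1
  rw [hK] at h7
  exact h7.trans (Nat.sub_one_dvd_pow_sub_one _ _)

end Cfsg.Agent.H740.NFTwF
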